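import Groth.Agent.Ega41.AdicRed
import Mathlib.RingTheory.Filtration
import Mathlib.RingTheory.Derivation.Basic

/-!
# Derivations of a Noetherian ring extending functionals on an ideal with adically formally smooth quotient

`exists_derivation`: `k → R → S` with `R` Noetherian, `R → S` surjective with kernel `J`, `I` an ideal of `R` such that `S` is
formally smooth over `k` for the `IS`-adic topology, `V` an `R`-module killed by `J` and by a power of `I`: every
`R`-linear map `J → V` extends to a `k`-derivation `R → V`.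
-/

set_option autoImplicit false
universe u v

namespace K100.AdicJac

variable {k R S : Type u} [CommRing k] [CommRing R] [CommRing S] [Algebra k R] [Algebra R S] [Algebra k S]
  [IsScalarTower k R S] [IsNoetherianRing R]

theorem exists_derivation (hsurj : Function.Surjective (algebraMap R S)) (J : Ideal R)
    (hJ : RingHom.ker (algebraMap R S) = J) (I : Ideal R)
    (hS : CAlgX.IsAdicFormallySmooth k S (I.map (algebraMap R S)))
    {V : Type v} [AddCommGroup V] [Module R V] [Module k V] [IsScalarTower k R V]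
    (hJV : ∀ a ∈ J, ∀ v : V, a • v = 0) (n : ℕ) (hIV : ∀ a ∈ I ^ n, ∀ v : V, a • v = 0)
    (φ : J →ₗ[R] V) :
    ∃ D : Derivation k R V, ∀ x : J, D (x : R) = φ x := by
  classical
  -- the kernel of `φ` as an ideal
  let J' : Ideal R := (LinearMap.ker φ).map J.subtype
  have hJ'J : J' ≤ J := by
    rintro _ ⟨x, -, rfl⟩
    exact x.2
  have hJ'mem : ∀ x : J, (x : R) ∈ J' ↔ φ x = 0 := by
    intro x
    constructor
    · rintro ⟨y, hy, hyx⟩
      have : y = x := Subtype.ext hyx
      rw [← this]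
      exact hy
    · intro hx
      exact ⟨x, hx, rfl⟩
  have hInJ : I ^ n * J ≤ J' := by
    rw [Ideal.mul_le]
    intro a ha b hb
    refine (hJ'mem ⟨a * b, J.mul_mem_left a hb⟩).2 ?_
    have : (⟨a * b, J.mul_mem_left a hb⟩ : J) = a • (⟨b, hb⟩ : J) := rfl
    rw [this, map_smul]
    exact hIV a ha _
  have hJJ : J * J ≤ J' := by
    rw [Ideal.mul_le]
    intro a ha b hb
    refine (hJ'mem ⟨a * b, J.mul_mem_left a hb⟩).2 ?_
    have : (⟨a * b, J.mul_mem_left a hb⟩ : J) = a • (⟨b, hb⟩ : J) := rfl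
    rw [this, map_smul]
    exact hJV a ha _
  -- Artin-Rees
  obtain ⟨m, hm⟩ : ∃ m : ℕ, I ^ m ⊓ J ≤ J' := by
    obtain ⟨c, hc⟩ := Ideal.exists_pow_inf_eq_pow_smul I (M := R) (N := J)
    refine ⟨c + n, ?_⟩
    have h1 := hc (c + n) (Nat.le_add_right c n)
    rw [Nat.add_sub_cancel_left] at h1
    simp only [smul_eq_mul, Ideal.mul_top] at h1
    rw [h1]
    exact (Ideal.mul_mono_right inf_le_right).trans hInJ
  let 𝔮 : Ideal R := J' ⊔ I ^ m
  have hJ𝔮 : ∀ x : J, (x : R) ∈ 𝔮 → φ x = 0 := by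
    intro x hx
    obtain ⟨a, ha, b, hb, hab⟩ := Submodule.mem_sup.1 hx
    rw [← hJ'mem]
    have hbJ : b ∈ J := by
      have : b = (x : R) - a := by rw [← hab]; ring
      rw [this]
      exact J.sub_mem x.2 (hJ'J ha)
    rw [← hab]
    exact J'.add_mem ha (hm ⟨hb, hbJ⟩)
  -- the test algebra
  let q : (R ⧸ 𝔮) →ₐ[k] (R ⧸ (J ⊔ I ^ m)) := Ideal.Quotient.factorₐ k (sup_le_sup_right hJ'J _)
  have hqmk : ∀ r : R, q (Ideal.Quotient.mk _ r) = Ideal.Quotient.mk _ r := fun r => rfl
  have hq : Function.Surjective q := fun y => by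
    obtain ⟨r, rfl⟩ := Ideal.Quotient.mk_surjective y
    exact ⟨Ideal.Quotient.mk _ r, rfl⟩
  have hker : ∀ y : R ⧸ 𝔮, q y = 0 → ∃ j : J, y = Ideal.Quotient.mk 𝔮 (j : R) := by
    intro y hy
    obtain ⟨r, rfl⟩ := Ideal.Quotient.mk_surjective y
    rw [hqmk, Ideal.Quotient.eq_zero_iff_mem] at hy
    obtain ⟨a, ha, b, hb, hab⟩ := Submodule.mem_sup.1 hy
    refine ⟨⟨a, ha⟩, ?_⟩
    rw [Ideal.Quotient.eq, ← hab]
    change a + b - a ∈ 𝔮
    rw [add_sub_cancel_left]
    exact Ideal.mem_sup_right hb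
  have hnil : IsNilpotent (RingHom.ker q) := by
    refine ⟨2, ?_⟩
    rw [Ideal.zero_eq_bot, eq_bot_iff, pow_two, Ideal.mul_le]
    intro x hx y hy
    obtain ⟨a, rfl⟩ := hker x hx
    obtain ⟨b, rfl⟩ := hker y hy
    rw [← map_mul, Ideal.mem_bot, Ideal.Quotient.eq_zero_iff_mem]
    exact Ideal.mem_sup_left (hJJ (Ideal.mul_mem_mul a.2 b.2))
  let f : R →ₐ[k] S := IsScalarTower.toAlgHom k R S
  have hf : Function.Surjective f := hsurj
  let e : (R ⧸ RingHom.ker f) ≃ₐ[k] S := Ideal.quotientKerAlgEquivOfSurjective hf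
  let g : (R ⧸ RingHom.ker f) →ₐ[k] (R ⧸ (J ⊔ I ^ m)) := Ideal.Quotient.factorₐ k (by
    have : RingHom.ker f = J := hJ
    rw [this]
    exact le_sup_left)
  let u : S →ₐ[k] (R ⧸ (J ⊔ I ^ m)) := g.comp e.symm.toAlgHom
  have hu : ∀ r : R, u (algebraMap R S r) = Ideal.Quotient.mk _ r := by
    intro r
    have h1 : e.symm (algebraMap R S r) = Ideal.Quotient.mk _ r := by
      rw [AlgEquiv.symm_apply_eq]
      rfl
    change g (e.symm (algebraMap R S r)) = _
    rw [h1]
    rfl
  obtain ⟨v, hv⟩ := Groth.Agent.Ega41.AdicRed.exists_lift' hS q hq hnil u ⟨m, by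
    intro x hx
    rw [← Ideal.map_pow] at hx
    obtain ⟨r, hr, rfl⟩ := (Ideal.mem_map_iff_of_surjective _ hsurj).1 hx
    rw [hu, Ideal.Quotient.eq_zero_iff_mem]
    exact Ideal.mem_sup_right hr⟩
  have hqv : ∀ s, q (v s) = u s := fun s => DFunLike.congr_fun hv s
  -- the difference
  have hex : ∀ r : R, ∃ j : J, Ideal.Quotient.mk 𝔮 r - v (algebraMap R S r) = Ideal.Quotient.mk 𝔮 (j : R) := by
    intro r
    apply hker
    rw [map_sub, hqv, hu, hqmk, sub_self]
  choose j hj using hex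
  have huniq : ∀ a b : J, Ideal.Quotient.mk 𝔮 (a : R) = Ideal.Quotient.mk 𝔮 (b : R) → φ a = φ b := by
    intro a b hab
    rw [Ideal.Quotient.eq] at hab
    have h1 := hJ𝔮 (a - b) hab
    rwa [map_sub, sub_eq_zero] at h1
  have hadd : ∀ a b : R, φ (j (a + b)) = φ (j a) + φ (j b) := by
    intro a b
    rw [← map_add]
    apply huniq
    rw [← hj]
    change _ = Ideal.Quotient.mk 𝔮 ((j a : R) + (j b : R))
    rw [map_add (Ideal.Quotient.mk 𝔮) (j a : R), ← hj, ← hj, map_add, map_add, map_add]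
    ring
  have hk : ∀ (c : k) (a : R), φ (j (c • a)) = c • φ (j a) := by
    intro c a
    rw [← algebraMap_smul R c (φ (j a)), ← map_smul]
    apply huniq
    rw [← hj]
    change _ = Ideal.Quotient.mk 𝔮 (algebraMap k R c * (j a : R))
    rw [map_mul (Ideal.Quotient.mk 𝔮) _ (j a : R), ← hj]
    have h1 : algebraMap R S (c • a) = c • algebraMap R S a := by
      rw [Algebra.smul_def, map_mul, ← IsScalarTower.algebraMap_apply, ← Algebra.smul_def]
    have h2 : v (c • algebraMap R S a) = Ideal.Quotient.mk 𝔮 (algebraMap k R c) * v (algebraMap R S a) := by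
      rw [map_smul, Algebra.smul_def]
      rfl
    rw [h1, h2, Algebra.smul_def, map_mul]
    ring
  have hleib : ∀ a b : R, φ (j (a * b)) = a • φ (j b) + b • φ (j a) := by
    intro a b
    have h0 : φ ((j b : R) • j a) = 0 := by
      rw [map_smul]
      exact hJV _ (j b).2 _
    have h1 : a • φ (j b) + b • φ (j a) = φ (a • j b + b • j a - (j b : R) • j a) := by
      rw [map_sub, map_add, h0, sub_zero, map_smul, map_smul]
    rw [h1]
    apply huniq
    rw [← hj]
    change _ = Ideal.Quotient.mk 𝔮 (a * (j b : R) + b * (j a : R) - (j b : R) * (j a : R))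
    rw [map_sub (Ideal.Quotient.mk 𝔮), map_add (Ideal.Quotient.mk 𝔮), map_mul (Ideal.Quotient.mk 𝔮) a (j b : R),
      map_mul (Ideal.Quotient.mk 𝔮) b (j a : R), map_mul (Ideal.Quotient.mk 𝔮) (j b : R) (j a : R), ← hj, ← hj,
      map_mul, map_mul, map_mul]
    ring
  let D₀ : R →ₗ[k] V :=
    { toFun := fun r => φ (j r)
      map_add' := hadd
      map_smul' := hk }
  refine ⟨Derivation.mk' D₀ hleib, fun x => ?_⟩
  change φ (j x) = φ x
  apply huniq
  rw [← hj]
  have : algebraMap R S (x : R) = 0 := by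
    rw [← RingHom.mem_ker, hJ]
    exact x.2
  rw [this, map_zero, sub_zero]

end K100.AdicJac
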