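import Groth.Agent.EGA41.K100.AdicJac
import Mathlib.RingTheory.LocalRing.ResidueField.Ideal
import Mathlib.RingTheory.LocalProperties.Basic
import Mathlib.RingTheory.RingHom.Surjective
import Mathlib.RingTheory.Localization.Module
import Mathlib.RingTheory.Kaehler.Basic
import Mathlib.LinearAlgebra.Dual.Lemmas

/-!
# The Jacobian criterion for adic formal smoothness at a prime: the easy direction

`A → B → C`, `B` Noetherian, `B → C` surjective with kernel `J`, `p` a prime of `C` such that `C_p` is formally smooth
over `A` for the adic topology of its maximal ideal. Then every `B`-linear map `J → κ(p)` extends to an `A`-derivation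
`B → κ(p)`, and `κ(p) ⊗ J/J² → κ(p) ⊗ Ω_{B/A}` is injective.
-/

set_option autoImplicit false
universe u v

namespace K100.AdicJacPrime

open IsLocalRing TensorProduct KaehlerDifferential

variable {A B C : Type u} [CommRing A] [CommRing B] [CommRing C]
  [Algebra A B] [Algebra B C] [Algebra A C] [IsScalarTower A B C]

theorem exists_derivation_atPrime [IsNoetherianRing B]
    (hsurj : Function.Surjective (algebraMap B C)) (p : Ideal C) [p.IsPrime]
    (h : CAlgX.IsAdicFormallySmooth A (Localization.AtPrime p) (maximalIdeal (Localization.AtPrime p)))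
    (J : Ideal B) (hJ : J = RingHom.ker (algebraMap B C)) (φ : J →ₗ[B] p.ResidueField) :
    ∃ D : Derivation A B p.ResidueField, ∀ x : J, D (x : B) = φ x := by
  let 𝔮 := p.comap (algebraMap B C)
  let R := Localization.AtPrime 𝔮
  let S := Localization.AtPrime p
  let g : R →+* S := Localization.localRingHom 𝔮 p (algebraMap B C) rfl
  let _ : Algebra R S := g.toAlgebra
  have hBRS : IsScalarTower B R S := IsScalarTower.of_algebraMap_eq fun x => by
    change _ = g (algebraMap B R x)
    rw [Localization.localRingHom_to_map, ← IsScalarTower.algebraMap_apply]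
  have hARS : IsScalarTower A R S := IsScalarTower.of_algebraMap_eq fun x => by
    rw [IsScalarTower.algebraMap_apply A B R, ← IsScalarTower.algebraMap_apply B R S,
      ← IsScalarTower.algebraMap_apply A B S]
  have hlocg : IsLocalHom (algebraMap R S) := inferInstanceAs (IsLocalHom g)
  have hRS : Function.Surjective (algebraMap R S) :=
    RingHom.surjective_localRingHom_of_surjective (algebraMap B C) hsurj p
  let V := p.ResidueField
  let _ : Algebra R V := ((algebraMap S V).comp (algebraMap R S)).toAlgebra
  have hRSV : IsScalarTower R S V := IsScalarTower.of_algebraMap_eq fun x => rfl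
  have hBRV : IsScalarTower B R V := IsScalarTower.of_algebraMap_eq fun x => by
    rw [IsScalarTower.algebraMap_apply R S V, ← IsScalarTower.algebraMap_apply B R S,
      ← IsScalarTower.algebraMap_apply B S V]
  have hARV : IsScalarTower A R V := IsScalarTower.of_algebraMap_eq fun x => by
    rw [IsScalarTower.algebraMap_apply R S V, ← IsScalarTower.algebraMap_apply A R S,
      ← IsScalarTower.algebraMap_apply A S V]
  let JR : Ideal R := Submodule.localized' R 𝔮.primeCompl (Algebra.linearMap B R) J
  have hJR : JR = J.map (algebraMap B R) := Ideal.localized'_eq_map R 𝔮.primeCompl J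
  have hker : RingHom.ker (algebraMap R S) = JR := by
    rw [hJR]
    apply le_antisymm
    · intro r hr
      obtain ⟨b, s, rfl⟩ := IsLocalization.exists_mk'_eq 𝔮.primeCompl r
      have h1 : algebraMap C S (algebraMap B C b) = 0 := by
        rw [← IsScalarTower.algebraMap_apply B C S, IsScalarTower.algebraMap_apply B R S,
          ← IsLocalization.mk'_spec' R b s, map_mul]
        have : algebraMap R S (IsLocalization.mk' R b s) = 0 := hr
        rw [this, mul_zero]
      obtain ⟨t, ht⟩ := (IsLocalization.map_eq_zero_iff p.primeCompl S _).1 h1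
      obtain ⟨t', ht'⟩ := hsurj t
      have ht'q : t' ∈ 𝔮.primeCompl := fun hmem => t.2 (by rw [← ht']; exact hmem)
      have h2 : t' * b ∈ J := by
        rw [hJ, RingHom.mem_ker, map_mul, ht', ht]
      have h3 : algebraMap B R (t' * b) ∈ J.map (algebraMap B R) := Ideal.mem_map_of_mem _ h2
      rw [map_mul] at h3
      have h4 := (Ideal.unit_mul_mem_iff_mem _ (IsLocalization.map_units R ⟨t', ht'q⟩)).1 h3
      rw [IsLocalization.mk'_eq_mul_mk'_one]
      exact Ideal.mul_mem_right _ _ h4
    · rw [Ideal.map_le_iff_le_comap]
      intro b hb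
      rw [Ideal.mem_comap, RingHom.mem_ker, ← IsScalarTower.algebraMap_apply B R S,
        IsScalarTower.algebraMap_apply B C S]
      rw [hJ, RingHom.mem_ker] at hb
      rw [hb, map_zero]
  -- the extension of `φ`
  have hunit : ∀ x : 𝔮.primeCompl, IsUnit ((algebraMap B (Module.End B V)) x) := by
    intro x
    rw [Module.End.isUnit_iff]
    have hx : algebraMap B V x ≠ 0 := by
      intro h0
      apply x.2
      change algebraMap B C x ∈ p
      rw [IsScalarTower.algebraMap_apply B C V] at h0
      exact Ideal.algebraMap_residueField_eq_zero.1 h0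
    constructor
    · intro a b hab
      have h1 : algebraMap B V x * a = algebraMap B V x * b := by
        rw [← Algebra.smul_def, ← Algebra.smul_def]
        exact hab
      exact mul_left_cancel₀ hx h1
    · intro a
      refine ⟨(algebraMap B V x)⁻¹ * a, ?_⟩
      exact (Algebra.smul_def (x : B) ((algebraMap B V x)⁻¹ * a)).trans (mul_inv_cancel_left₀ hx a)
  let ι : J →ₗ[B] JR := Submodule.toLocalized' R 𝔮.primeCompl (Algebra.linearMap B R) J
  let φ₁ : JR →ₗ[B] V := IsLocalizedModule.lift 𝔮.primeCompl ι φ hunit
  let φR : JR →ₗ[R] V := φ₁.extendScalarsOfIsLocalization 𝔮.primeCompl R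
  have hφR : ∀ x : J, φR (ι x) = φ x := fun x => by
    change φ₁ (ι x) = φ x
    exact IsLocalizedModule.lift_apply _ _ _ _ _
  have : IsNoetherianRing R := IsLocalization.isNoetherianRing 𝔮.primeCompl _ inferInstance
  have hmax : (maximalIdeal R).map (algebraMap R S) = maximalIdeal S :=
    map_maximalIdeal_of_surjective _ hRS
  have hsm : ∀ (a : R) (v : V), algebraMap S V (algebraMap R S a) = 0 → a • v = 0 := by
    intro a v h0
    have h1 : a • v = algebraMap R V a * v := rfl
    rw [h1, IsScalarTower.algebraMap_apply R S V, h0, zero_mul]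
  obtain ⟨D, hD⟩ := AdicJac.exists_derivation (k := A) hRS JR hker (maximalIdeal R) (by rw [hmax]; exact h) (V := V)
    (fun a ha v => by
      rw [← hker] at ha
      exact hsm a v (by rw [RingHom.mem_ker.1 ha, map_zero])) 1
    (fun a ha v => by
      rw [pow_one] at ha
      have h1 : algebraMap R S a ∈ maximalIdeal S := by
        rw [← hmax]; exact Ideal.mem_map_of_mem _ ha
      exact hsm a v ((residue_eq_zero_iff _).2 h1)) φR
  refine ⟨D.compAlgebraMap B, fun x => ?_⟩
  rw [← hφR x, ← hD]
  rfl

/-- Adic formal smoothness of `C_p` gives the injectivity of `κ(p) ⊗ J/J² → κ(p) ⊗ Ω_{B/A}` (`B` Noetherian). -/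
theorem injective_of_isAdicFormallySmooth [IsNoetherianRing B]
    (hsurj : Function.Surjective (algebraMap B C)) (p : Ideal C) [p.IsPrime]
    (h : CAlgX.IsAdicFormallySmooth A (Localization.AtPrime p) (maximalIdeal (Localization.AtPrime p))) :
    Function.Injective ((kerCotangentToTensor A B C).lTensor p.ResidueField) := by
  rw [injective_iff_map_eq_zero]
  intro x hx
  let K := p.ResidueField
  let x' : K ⊗[B] (RingHom.ker (algebraMap B C)).Cotangent := x
  change x' = 0
  rw [← Module.forall_dual_apply_eq_zero_iff K]
  intro φ
  obtain ⟨D, hD⟩ := exists_derivation_atPrime hsurj p h _ rfl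
    (((φ.restrictScalars B).comp (TensorProduct.mk B K (RingHom.ker (algebraMap B C)).Cotangent 1)).comp
      (RingHom.ker (algebraMap B C)).toCotangent)
  let ψ : K ⊗[B] (C ⊗[B] Ω[B⁄A]) →ₗ[K] K :=
    ((D.liftKaehlerDifferential.liftBaseChange C).restrictScalars B).liftBaseChange K
  have key : ∀ y : K ⊗[B] (RingHom.ker (algebraMap B C)).Cotangent,
      ψ ((kerCotangentToTensor A B C).lTensor K y) = φ y := by
    intro y
    induction y using TensorProduct.induction_on with
    | zero => simp
    | add a b ha hb => rw [map_add, map_add, ha, hb, map_add]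
    | tmul a c =>
      obtain ⟨c, rfl⟩ := Ideal.toCotangent_surjective _ c
      have h1 : ψ ((kerCotangentToTensor A B C).lTensor K (a ⊗ₜ Ideal.toCotangent _ c)) = a * D (c : B) := by
        rw [LinearMap.lTensor_tmul, kerCotangentToTensor_toCotangent, LinearMap.liftBaseChange_tmul,
          LinearMap.coe_restrictScalars, LinearMap.liftBaseChange_tmul, one_smul,
          Derivation.liftKaehlerDifferential_comp_D, smul_eq_mul]
      rw [h1, hD]
      have h2 : (a ⊗ₜ[B] (Ideal.toCotangent _ c) : K ⊗[B] (RingHom.ker (algebraMap B C)).Cotangent) =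
          a • ((1 : K) ⊗ₜ[B] (Ideal.toCotangent _ c)) := by
        rw [TensorProduct.smul_tmul', smul_eq_mul, mul_one]
      rw [h2, map_smul, smul_eq_mul]
      rfl
  rw [← key]
  have hx' : (kerCotangentToTensor A B C).lTensor K x' = 0 := hx
  rw [hx', map_zero]

end K100.AdicJacPrime
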