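import Groth.Agent.Ega41.PowComplete
import Mathlib.RingTheory.AdicCompletion.Functoriality

/-!
# Finiteness of the adic completion of a module which is finite modulo `I`

`R` is `I`-adically complete, `M / I M` is finite: then the `I`-adic completion of `M` is a finite `R`-module
(no finiteness on `I`).
-/

set_option autoImplicit false

namespace K100.CompSurj

open Submodule

variable {R : Type*} [CommRing R] (I : Ideal R)

/-- If `F` is precomplete and `F → M` is surjective modulo `I`, then `F → M^` is surjective. -/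
theorem surjective_of_sup {F M : Type*} [AddCommGroup F] [Module R F] [AddCommGroup M] [Module R M]
    [IsPrecomplete I F] (φ : F →ₗ[R] M) (h : LinearMap.range φ ⊔ (I • ⊤ : Submodule R M) = ⊤) :
    Function.Surjective (AdicCompletion.of I M ∘ₗ φ) := by
  have hstep : ∀ n : ℕ, (I ^ n • ⊤ : Submodule R M) ≤ (I ^ n • ⊤ : Submodule R F).map φ ⊔ I ^ (n + 1) • ⊤ := by
    intro n
    rw [Submodule.map_smul'', Submodule.map_top]
    conv_lhs => rw [← h]
    rw [Submodule.smul_sup, pow_succ, Submodule.mul_smul]
  intro x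
  have key : ∀ (n : ℕ) (b : F), (Submodule.Quotient.mk (φ b) : M ⧸ (I ^ n • ⊤ : Submodule R M)) = x.val n →
      ∃ b' : F, (Submodule.Quotient.mk (φ b') : M ⧸ (I ^ (n + 1) • ⊤ : Submodule R M)) = x.val (n + 1) ∧
        b' - b ∈ (I ^ n • ⊤ : Submodule R F) := by
    intro n b hb
    obtain ⟨m, hm⟩ := Submodule.Quotient.mk_surjective _ (x.val (n + 1))
    have h1 : (Submodule.Quotient.mk m : M ⧸ (I ^ n • ⊤ : Submodule R M)) = x.val n := by
      have h0 := x.2 (Nat.le_add_right n 1)
      rw [← hm] at h0
      exact h0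
    have h2 : m - φ b ∈ (I ^ n • ⊤ : Submodule R M) := by
      rw [← Submodule.Quotient.eq, h1, hb]
    obtain ⟨_, ⟨c, hc, rfl⟩, z, hz, hcz⟩ := Submodule.mem_sup.1 (hstep n h2)
    refine ⟨b + c, ?_, ?_⟩
    · rw [← hm, Submodule.Quotient.eq, map_add]
      have : φ b + φ c - m = - z := by
        rw [eq_neg_iff_add_eq_zero]
        have h3 : φ c + z = m - φ b := hcz
        have h4 : m = φ b + (φ c + z) := by rw [h3]; abel
        rw [h4]
        abel
      rw [this]
      exact Submodule.neg_mem _ hz
    · rw [add_sub_cancel_left]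
      exact hc
  let s : ∀ n : ℕ, {b : F // (Submodule.Quotient.mk (φ b) : M ⧸ (I ^ n • ⊤ : Submodule R M)) = x.val n} :=
    fun n => Nat.rec ⟨0, by
      have : Subsingleton (M ⧸ (I ^ 0 • ⊤ : Submodule R M)) := by
        rw [Submodule.Quotient.subsingleton_iff]
        simp
      exact Subsingleton.elim _ _⟩
      (fun n b => ⟨(key n b.1 b.2).choose, (key n b.1 b.2).choose_spec.1⟩) n
  have hs : ∀ n, (s (n + 1)).1 - (s n).1 ∈ (I ^ n • ⊤ : Submodule R F) := fun n =>
    (key n (s n).1 (s n).2).choose_spec.2
  have hs' : ∀ m k, (s (m + k)).1 - (s m).1 ∈ (I ^ m • ⊤ : Submodule R F) := by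
    intro m k
    induction k with
    | zero => simp
    | succ k ih =>
      have h1 : (s (m + (k + 1))).1 - (s m).1 = ((s (m + k + 1)).1 - (s (m + k)).1) + ((s (m + k)).1 - (s m).1) := by
        rw [← add_assoc]; abel
      rw [h1]
      exact add_mem (Submodule.smul_mono_left (Ideal.pow_le_pow_right (Nat.le_add_right m k)) (hs (m + k))) ih
  obtain ⟨L, hL⟩ := IsPrecomplete.prec' (I := I) (fun n => (s n).1) (fun {m n} hmn => by
    obtain ⟨k, rfl⟩ := Nat.exists_eq_add_of_le hmn
    rw [SModEq.comm, SModEq.sub_mem]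
    exact hs' m k)
  refine ⟨L, ?_⟩
  ext n
  change (Submodule.Quotient.mk (φ L) : M ⧸ (I ^ n • ⊤ : Submodule R M)) = x.val n
  rw [← (s n).2, Submodule.Quotient.eq, ← map_sub]
  have h1 := hL n
  rw [SModEq.comm, SModEq.sub_mem] at h1
  have h2 : (I ^ n • ⊤ : Submodule R F).map φ ≤ (I ^ n • ⊤ : Submodule R M) := by
    rw [Submodule.map_smul'']
    exact Submodule.smul_mono le_rfl le_top
  exact h2 ⟨_, h1, rfl⟩

/-- Finiteness of the completion of a module which is finite modulo `I`. -/
theorem finite_adicCompletion [IsPrecomplete I R] {M : Type*} [AddCommGroup M] [Module R M]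
    (h : Module.Finite R (M ⧸ (I • ⊤ : Submodule R M))) : Module.Finite R (AdicCompletion I M) := by
  obtain ⟨n, s, hs⟩ := Module.Finite.exists_fin (R := R) (M := M ⧸ (I • ⊤ : Submodule R M))
  choose m hm using fun i ↦ Submodule.mkQ_surjective (I • ⊤ : Submodule R M) (s i)
  let f : (Fin n → R) →ₗ[R] M := Fintype.linearCombination R m
  have hf : LinearMap.range f ⊔ (I • ⊤ : Submodule R M) = ⊤ := by
    have h1 : (LinearMap.range f).map (I • ⊤ : Submodule R M).mkQ = ⊤ := by
      rw [Fintype.range_linearCombination, Submodule.map_span, ← Set.range_comp, ← hs]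
      congr 1
      ext x
      simp [hm]
    have h2 := congrArg (Submodule.comap (I • ⊤ : Submodule R M).mkQ) h1
    rw [Submodule.comap_map_mkQ, Submodule.comap_top, sup_comm] at h2
    exact h2
  have := Groth.Agent.Ega41.PowComplete.isPrecomplete_pi I (Fin n)
  exact Module.Finite.of_surjective _ (surjective_of_sup I f hf)

/-- The completion vanishes iff `I M = M`. -/
theorem subsingleton_adicCompletion_iff {M : Type*} [AddCommGroup M] [Module R M] :
    Subsingleton (AdicCompletion I M) ↔ (I • ⊤ : Submodule R M) = ⊤ := by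
  constructor
  · intro h
    rw [eq_top_iff]
    intro m _
    have h1 : AdicCompletion.of I M m = 0 := Subsingleton.elim _ _
    have h2 := congrArg (fun x : AdicCompletion I M => x.val 1) h1
    have h3 : (Submodule.Quotient.mk m : M ⧸ (I ^ 1 • ⊤ : Submodule R M)) = 0 := h2
    rw [Submodule.Quotient.mk_eq_zero, pow_one] at h3
    exact h3
  · intro h
    have hn : ∀ n : ℕ, (I ^ n • ⊤ : Submodule R M) = ⊤ := by
      intro n
      induction n with
      | zero => simp
      | succ n ih => rw [pow_succ, Submodule.mul_smul, h, ih]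
    refine ⟨fun x y => ?_⟩
    ext n
    have : Subsingleton (M ⧸ (I ^ n • ⊤ : Submodule R M)) := by
      rw [Submodule.Quotient.subsingleton_iff]
      exact hn n
    exact Subsingleton.elim _ _

end K100.CompSurj
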