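import Groth.Agent.Ega41.CompKaehler
import Mathlib.RingTheory.AdicCompletion.Algebra
import Mathlib.RingTheory.AdicCompletion.AsTensorProduct

/-!
# Extension of derivations to adic completions

`exists_derivation`: a `k`-derivation `D : A → M` extends to a `k`-derivation of the `I`-adic completions.
-/

set_option autoImplicit false

namespace K100.DerCompl

variable {k A M : Type*} [CommRing k] [CommRing A] [Algebra k A] [AddCommGroup M] [Module A M] [Module k M]
  [IsScalarTower k A M] (I : Ideal A)

theorem key (D : Derivation k A M) (n : ℕ) (a b : A)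
    (h : (Submodule.Quotient.mk a : A ⧸ (I ^ (n + 1) • ⊤ : Ideal A)) = Submodule.Quotient.mk b) :
    (Submodule.Quotient.mk (D a) : M ⧸ (I ^ n • ⊤ : Submodule A M)) = Submodule.Quotient.mk (D b) := by
  rw [Submodule.Quotient.eq] at h ⊢
  rw [← map_sub]
  apply Groth.Agent.Ega41.CompKaehler.derivation_mem_pow_smul
  simpa using h

theorem exists_derivation (D : Derivation k A M) :
    ∃ D' : Derivation k (AdicCompletion I A) (AdicCompletion I M),
      ∀ a, D' (algebraMap A _ a) = AdicCompletion.of I M (D a) := by
  have hex : ∀ (n : ℕ) (x : AdicCompletion I A), ∃ a : A,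
      (Submodule.Quotient.mk a : A ⧸ (I ^ n • ⊤ : Ideal A)) = x.val n := fun n x =>
    Submodule.Quotient.mk_surjective _ (x.val n)
  choose r hr using hex
  have hr' : ∀ (m n : ℕ), m ≤ n → ∀ x, (Submodule.Quotient.mk (r n x) : A ⧸ (I ^ m • ⊤ : Ideal A)) = x.val m := by
    intro m n hmn x
    have h0 := x.2 hmn
    rw [← hr n x] at h0
    exact h0
  let F : AdicCompletion I A → AdicCompletion I M := fun x =>
    ⟨fun n => Submodule.Quotient.mk (D (r (n + 1) x)), fun {m n} hmn => by
      change (Submodule.Quotient.mk (D (r (n + 1) x)) : M ⧸ (I ^ m • ⊤ : Submodule A M)) =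
        Submodule.Quotient.mk (D (r (m + 1) x))
      apply key
      rw [hr' (m + 1) (n + 1) (by lia), hr]⟩
  have hF : ∀ (n : ℕ) (x : AdicCompletion I A) (a : A),
      (Submodule.Quotient.mk a : A ⧸ (I ^ (n + 1) • ⊤ : Ideal A)) = x.val (n + 1) →
      (F x).val n = Submodule.Quotient.mk (D a) := by
    intro n x a ha
    change Submodule.Quotient.mk (D (r (n + 1) x)) = _
    apply key
    rw [hr, ha]
  let D₀ : AdicCompletion I A →ₗ[k] AdicCompletion I M :=
    { toFun := F
      map_add' := fun x y => by
        ext n
        rw [hF n (x + y) (r (n + 1) x + r (n + 1) y) (by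
          rw [Submodule.Quotient.mk_add, hr, hr]
          rfl), map_add]
        rfl
      map_smul' := fun c x => by
        ext n
        rw [hF n (c • x) (c • r (n + 1) x) (by
          have : c • r (n + 1) x = algebraMap k A c • r (n + 1) x := by rw [algebraMap_smul]
          rw [this, Submodule.Quotient.mk_smul, hr, algebraMap_smul]
          rfl), D.map_smul]
        rfl }
  refine ⟨Derivation.mk' D₀ fun x y => ?_, fun a => ?_⟩
  · ext n
    change (F (x * y)).val n = (x • F y + y • F x).val n
    rw [hF n (x * y) (r (n + 1) x * r (n + 1) y) (by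
      rw [AdicCompletion.val_mul, ← hr, ← hr]
      rfl), Derivation.leibniz]
    have h1 : ∀ x y : AdicCompletion I A, (x • F y).val n =
        (Submodule.Quotient.mk (r (n + 1) x • D (r (n + 1) y)) : M ⧸ (I ^ n • ⊤ : Submodule A M)) := by
      intro x y
      rw [AdicCompletion.smul_eval, ← hr' n (n + 1) (by lia) x]
      rfl
    rw [AdicCompletion.val_add, Pi.add_apply, h1, h1]
    rfl
  · ext n
    change (F (algebraMap A _ a)).val n = _
    rw [hF n _ a rfl]
    rfl

end K100.DerCompl
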