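import Groth.Agent.S2035
import Groth.Agent.S2036
import Groth.Agent.S2037
import Groth.Agent.CalgB.AdicGeomReg
import Groth.Agent.CalgB.RegHom2

/-!
# Geometric regularity and adic formal smoothness over a field
-/

set_option autoImplicit false
universe u

namespace K100.GeomReg

open TensorProduct IsLocalRing

/-- `k' ⊗ A` for `k' = k` up to isomorphism. -/
theorem isRegularRing_of_tensor_self {k A : Type u} [Field k] [CommRing A] [Algebra k A]
    (h : IsRegularRing (k ⊗[k] A)) : IsRegularRing A :=
  IsRegularRing.of_ringEquiv (Algebra.TensorProduct.lid k A).toRingEquiv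

/-- Geometrically regular implies regular. -/
theorem isRegularRing_of_isGeometricallyRegular {k A : Type u} [Field k] [CommRing A] [Algebra k A]
    (h : CAlg.IsGeometricallyRegular k A) : IsRegularRing A :=
  isRegularRing_of_tensor_self (h k inferInstance)

/-- Geometrically regular local algebras are adically formally smooth. -/
theorem isAdicFormallySmooth_of_isGeometricallyRegular {k F : Type u} [Field k] [CommRing F]
    [IsLocalRing F] [IsNoetherianRing F] [Algebra k F] (h : CAlg.IsGeometricallyRegular k F) :
    CAlgX.IsAdicFormallySmooth k F (IsLocalRing.maximalIdeal F) := by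
  obtain h0 | ⟨p, hp, hpk⟩ := CharP.exists' k
  · rw [← Groth.Agent.S2035.result]
    have h2 : IsRegularRing F := isRegularRing_of_isGeometricallyRegular h
    exact IsRegularLocalRing.of_isRegularRing_of_isLocalRing F
  · exact (Groth.Agent.S2036.result p).1 h

/-- The two notions agree for Noetherian local algebras. -/
theorem isAdicFormallySmooth_iff {k F : Type u} [Field k] [CommRing F]
    [IsLocalRing F] [IsNoetherianRing F] [Algebra k F] :
    CAlgX.IsAdicFormallySmooth k F (IsLocalRing.maximalIdeal F) ↔ CAlg.IsGeometricallyRegular k F :=
  ⟨Groth.Agent.CalgB.AdicGeomReg.isGeometricallyRegular_of_isAdicFormallySmooth,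
    isAdicFormallySmooth_of_isGeometricallyRegular⟩

/-- Geometric regularity passes to localizations. -/
theorem isGeometricallyRegular_of_isLocalization {k A : Type u} [Field k] [CommRing A] [Algebra k A]
    (h : CAlg.IsGeometricallyRegular k A) (M : Submonoid A) (L : Type u) [CommRing L] [Algebra A L] [Algebra k L]
    [IsScalarTower k A L] [IsLocalization M L] : CAlg.IsGeometricallyRegular k L := by
  intro k' _ _ hk'
  have := h k' hk'
  exact Groth.Agent.CalgB.RegHom2.isRegularRing_tensor_localization_right (R := k) k' (A := A) L M

end K100.GeomReg
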