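import Groth.Agent.Ega41.AdicRed
import Groth.Agent.Ega41.TrivExt
import Mathlib.RingTheory.Kaehler.Basic
import Mathlib.RingTheory.Derivation.ToSquareZero
import Mathlib.LinearAlgebra.TensorProduct.Tower

/-!
# Adic formal smoothness over `A` and over `Λ` for `Λ → A → B`

* `isAdicFormallySmooth_of_retraction`: if `B` is formally smooth over `Λ` (for the `J`-adic topology) and
  `B/J ⊗ Ω_{A/Λ} → B/J ⊗ Ω_{B/Λ}` has a left inverse, then `B` is formally smooth over `A`.
* `exists_retraction`: conversely that map has a left inverse if `B` is formally smooth over `A`.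
-/

set_option autoImplicit false
universe u v

namespace K100.RelJac

open TensorProduct KaehlerDifferential

variable {Λ A B : Type u} [CommRing Λ] [CommRing A] [CommRing B] [Algebra Λ A] [Algebra A B] [Algebra Λ B]
  [IsScalarTower Λ A B]

theorem isAdicFormallySmooth_of_retraction (𝔍 : Ideal B) (h₀ : CAlgX.IsAdicFormallySmooth Λ B 𝔍)
    (l : (B ⧸ 𝔍) ⊗[B] Ω[B⁄Λ] →ₗ[B ⧸ 𝔍] (B ⧸ 𝔍) ⊗[B] (B ⊗[A] Ω[A⁄Λ]))
    (hl : l ∘ₗ (mapBaseChange Λ A B).baseChange (B ⧸ 𝔍) = LinearMap.id) :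
    CAlgX.IsAdicFormallySmooth A B 𝔍 := by
  apply Groth.Agent.Ega41.AdicRed.isAdicFormallySmooth_of_small
  intro C D _ _ _ _ q u hs ⟨m, hm⟩
  let _ : Algebra Λ C := ((algebraMap A C).comp (algebraMap Λ A)).toAlgebra
  have : IsScalarTower Λ A C := IsScalarTower.of_algebraMap_eq fun x => rfl
  let _ : Algebra Λ D := ((algebraMap A D).comp (algebraMap Λ A)).toAlgebra
  have : IsScalarTower Λ A D := IsScalarTower.of_algebraMap_eq fun x => rfl
  let J : Ideal C := RingHom.ker q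
  have hJsq : J ^ 2 = ⊥ := by
    rw [eq_bot_iff, pow_two, Ideal.mul_le]
    intro x hx y hy
    exact hs.sq x y hx hy
  obtain ⟨v, hv⟩ := Groth.Agent.Ega41.AdicRed.exists_lift' h₀ (q.restrictScalars Λ) hs.surj ⟨2, hJsq⟩
    (u.restrictScalars Λ) ⟨m, hm⟩
  have hqv : ∀ b, q (v b) = u b := fun b => DFunLike.congr_fun hv b
  let _ : Algebra B C := v.toRingHom.toAlgebra
  have : IsScalarTower Λ B C := IsScalarTower.of_algebraMap_eq fun x => (v.commutes x).symm
  have halg : ∀ b : B, algebraMap B C b = v b := fun b => rfl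
  have hmul : ∀ (x : A) (j : C), j ∈ J → v (algebraMap A B x) * j = algebraMap A C x * j := by
    intro x j hj
    have h1 : algebraMap A C x - v (algebraMap A B x) ∈ J := by
      change q _ = 0
      rw [map_sub, hqv, AlgHom.commutes, AlgHom.commutes, sub_self]
    have h2 := hs.sq _ j h1 hj
    rw [sub_mul, sub_eq_zero] at h2
    exact h2.symm
  have : IsScalarTower A B J := ⟨fun x a j => by
    ext
    change v (x • a) * (j : C) = x • (v a * (j : C))
    rw [Algebra.smul_def, Algebra.smul_def, map_mul, mul_assoc, hmul x _ (J.mul_mem_left _ j.2)]⟩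
  have hJ' : Module.IsTorsionBySet B J (𝔍 : Set B) := by
    intro j a
    ext
    exact hs.kill a.1 a.2 (v a.1) (hqv a.1) j.1 j.2
  let _ : Module (B ⧸ 𝔍) J := hJ'.module
  have : IsScalarTower B (B ⧸ 𝔍) J := Module.IsTorsionBySet.isScalarTower hJ'
  -- the derivation
  have hmem : ∀ x : A, algebraMap A C x - v (algebraMap A B x) ∈ J := by
    intro x
    change q _ = 0
    rw [map_sub, hqv, AlgHom.commutes, AlgHom.commutes, sub_self]
  have hΛ : ∀ c : Λ, v (algebraMap A B (algebraMap Λ A c)) = algebraMap A C (algebraMap Λ A c) := by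
    intro c
    rw [← IsScalarTower.algebraMap_apply Λ A B, v.commutes]
    rfl
  let D₀ : A →ₗ[Λ] J :=
    { toFun := fun x => ⟨algebraMap A C x - v (algebraMap A B x), hmem x⟩
      map_add' := fun x y => by ext; simp; ring
      map_smul' := fun n x => by
        ext
        change algebraMap A C (n • x) - v (algebraMap A B (n • x)) = n • (algebraMap A C x - v (algebraMap A B x))
        rw [Algebra.smul_def, Algebra.smul_def, map_mul, map_mul, map_mul, hΛ]
        change _ = algebraMap A C (algebraMap Λ A n) * _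
        ring }
  let D₁ : Derivation Λ A J := Derivation.mk' D₀ (fun x y => by
    ext
    change algebraMap A C (x * y) - v (algebraMap A B (x * y)) =
      x • (algebraMap A C y - v (algebraMap A B y)) + y • (algebraMap A C x - v (algebraMap A B x))
    have h3 := hmul y _ (hmem x)
    rw [Algebra.smul_def, Algebra.smul_def, ← h3, map_mul, map_mul, map_mul]
    ring)
  let G : (B ⧸ 𝔍) ⊗[B] (B ⊗[A] Ω[A⁄Λ]) →ₗ[B ⧸ 𝔍] J :=
    (D₁.liftKaehlerDifferential.liftBaseChange B).liftBaseChange (B ⧸ 𝔍)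
  let Φ : (B ⧸ 𝔍) ⊗[B] (B ⊗[A] Ω[A⁄Λ]) →ₗ[B ⧸ 𝔍] (B ⧸ 𝔍) ⊗[B] Ω[B⁄Λ] := (mapBaseChange Λ A B).baseChange (B ⧸ 𝔍)
  let ψ : (B ⧸ 𝔍) ⊗[B] Ω[B⁄Λ] →ₗ[B ⧸ 𝔍] J := G ∘ₗ l
  have hψ : ψ ∘ₗ Φ = G := by
    change (G ∘ₗ l) ∘ₗ Φ = G
    rw [LinearMap.comp_assoc, hl, LinearMap.comp_id]
  let D₂ : Derivation Λ B J := ((ψ.restrictScalars B).comp (TensorProduct.mk B (B ⧸ 𝔍) (Ω[B⁄Λ]) 1)).compDer
    (KaehlerDifferential.D Λ B)
  have hD₂ : ∀ x : A, D₂ (algebraMap A B x) = D₁ x := by
    intro x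
    have h4 := LinearMap.congr_fun hψ ((1 : B ⧸ 𝔍) ⊗ₜ[B] ((1 : B) ⊗ₜ[A] KaehlerDifferential.D Λ A x))
    have h5 : Φ ((1 : B ⧸ 𝔍) ⊗ₜ[B] ((1 : B) ⊗ₜ[A] KaehlerDifferential.D Λ A x)) =
        (1 : B ⧸ 𝔍) ⊗ₜ[B] KaehlerDifferential.D Λ B (algebraMap A B x) := by
      simp only [Φ, LinearMap.baseChange_tmul, KaehlerDifferential.mapBaseChange_tmul, KaehlerDifferential.map_D,
        one_smul]
    have h6 : G ((1 : B ⧸ 𝔍) ⊗ₜ[B] ((1 : B) ⊗ₜ[A] KaehlerDifferential.D Λ A x)) = D₁ x := by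
      simp only [G, LinearMap.liftBaseChange_tmul, one_smul, Derivation.liftKaehlerDifferential_comp_D]
    rw [LinearMap.comp_apply, h5, h6] at h4
    exact h4
  let w : B →ₐ[Λ] C := liftOfDerivationToSquareZero J hJsq D₂
  have hw : ∀ a, w a = (D₂ a : C) + v a := fun a => rfl
  refine ⟨{ w.toRingHom with commutes' := fun x => ?_ }, ?_⟩
  · change w (algebraMap A B x) = algebraMap A C x
    rw [hw, hD₂]
    change (algebraMap A C x - v (algebraMap A B x)) + _ = _
    ring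
  · ext a
    change q (w a) = u a
    rw [hw, map_add, hqv]
    have : q (D₂ a : C) = 0 := (D₂ a).2
    rw [this, zero_add]

/-- If `B` is adically formally smooth over `A`, then `B/J ⊗ Ω_{A/Λ} → B/J ⊗ Ω_{B/Λ}` has a left inverse. -/
theorem exists_retraction (𝔍 : Ideal B) (h : CAlgX.IsAdicFormallySmooth A B 𝔍) :
    ∃ l : (B ⧸ 𝔍) ⊗[B] Ω[B⁄Λ] →ₗ[B ⧸ 𝔍] (B ⧸ 𝔍) ⊗[B] (B ⊗[A] Ω[A⁄Λ]),
      l ∘ₗ (mapBaseChange Λ A B).baseChange (B ⧸ 𝔍) = LinearMap.id := by
  let K := B ⧸ 𝔍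
  let M := K ⊗[B] (B ⊗[A] Ω[A⁄Λ])
  let ι : Ω[A⁄Λ] →ₗ[A] M := ((TensorProduct.mk B K (B ⊗[A] Ω[A⁄Λ]) 1).restrictScalars A).comp
    (TensorProduct.mk A B (Ω[A⁄Λ]) 1)
  let d : Derivation Λ A M := ι.compDer (KaehlerDifferential.D Λ A)
  have hd : ∀ x, d x = (1 : K) ⊗ₜ[B] ((1 : B) ⊗ₜ[A] KaehlerDifferential.D Λ A x) := fun x => rfl
  let C := Groth.Agent.Ega41.TrivExt.Ext K M
  let f : A →+* C := Groth.Agent.Ega41.TrivExt.Ext.lift (algebraMap A K) (d : A →ₗ[Λ] M).toAddMonoidHom (by simp)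
    (fun a b => by simp [algebraMap_smul])
  let _ : Algebra A C := f.toAlgebra
  let q : C →ₐ[A] K := { Groth.Agent.Ega41.TrivExt.Ext.proj with commutes' := fun x => rfl }
  obtain ⟨v, hv⟩ := Groth.Agent.Ega41.AdicRed.exists_lift' h q Groth.Agent.Ega41.TrivExt.Ext.proj_surjective
    ⟨2, Groth.Agent.Ega41.TrivExt.Ext.ker_proj_sq⟩
    (IsScalarTower.toAlgHom A B K) ⟨1, fun x hx => by
      rw [pow_one] at hx
      exact Ideal.Quotient.eq_zero_iff_mem.2 hx⟩
  have hv1 : ∀ a, (v a).fst = algebraMap B K a := fun a => DFunLike.congr_fun hv a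
  have hvA : ∀ x : A, (v (algebraMap A B x)).snd = d x := fun x => by
    rw [AlgHom.commutes]
    rfl
  let D₀ : B →ₗ[Λ] M :=
    { toFun := fun b => (v b).snd
      map_add' := fun a b => by rw [map_add]; rfl
      map_smul' := fun c b => by
        rw [RingHom.id_apply, Algebra.smul_def, IsScalarTower.algebraMap_apply Λ A B, map_mul,
          Groth.Agent.Ega41.TrivExt.Ext.snd_mul, hvA, Derivation.map_algebraMap, smul_zero, add_zero, hv1,
          algebraMap_smul, ← IsScalarTower.algebraMap_apply Λ A B, algebraMap_smul] }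
  let D' : Derivation Λ B M := Derivation.mk' D₀
    (fun a b => by
      change (v (a * b)).snd = a • (v b).snd + b • (v a).snd
      rw [map_mul, Groth.Agent.Ega41.TrivExt.Ext.snd_mul, hv1, hv1, algebraMap_smul, algebraMap_smul])
  let l : K ⊗[B] Ω[B⁄Λ] →ₗ[K] M := D'.liftKaehlerDifferential.liftBaseChange K
  refine ⟨l, ?_⟩
  apply LinearMap.ext
  intro z
  rw [LinearMap.id_apply, LinearMap.comp_apply]
  induction z using TensorProduct.induction_on with
  | zero => simp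
  | add x y hx hy => rw [map_add, map_add, hx, hy]
  | tmul a y =>
    induction y using TensorProduct.induction_on with
    | zero => simp
    | add x y hx hy => rw [TensorProduct.tmul_add, map_add, map_add, hx, hy]
    | tmul b ω =>
      have hω : ω ∈ Submodule.span A (Set.range (KaehlerDifferential.D Λ A)) := by
        rw [KaehlerDifferential.span_range_derivation]; trivial
      induction hω using Submodule.span_induction with
      | mem ω hω =>
        obtain ⟨x, rfl⟩ := hω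
        rw [LinearMap.baseChange_tmul, KaehlerDifferential.mapBaseChange_tmul, KaehlerDifferential.map_D,
          TensorProduct.tmul_smul, ← algebraMap_smul K b, map_smul, LinearMap.liftBaseChange_tmul,
          Derivation.liftKaehlerDifferential_comp_D]
        change algebraMap B K b • (a • (v (algebraMap A B x)).snd) = _
        rw [hvA, hd, algebraMap_smul, TensorProduct.smul_tmul', smul_eq_mul, mul_one, ← TensorProduct.tmul_smul,
          TensorProduct.smul_tmul', smul_eq_mul, mul_one]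
      | zero => simp
      | add x y _ _ hx hy => simp only [TensorProduct.tmul_add, map_add, hx, hy]
      | smul c x _ hx =>
        have h1 : (a ⊗ₜ[B] (b ⊗ₜ[A] (c • x)) : K ⊗[B] (B ⊗[A] Ω[A⁄Λ])) =
            (algebraMap B K (algebraMap A B c)) • (a ⊗ₜ[B] (b ⊗ₜ[A] x)) := by
          rw [TensorProduct.tmul_smul, ← algebraMap_smul B c (b ⊗ₜ[A] x), TensorProduct.tmul_smul,
            ← algebraMap_smul K (algebraMap A B c) (a ⊗ₜ[B] (b ⊗ₜ[A] x))]
        rw [h1, map_smul, map_smul, hx]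

/-- Left inverse from injectivity and projectivity of the cokernel `B/J ⊗ Ω_{B/A}`. -/
theorem exists_retraction_of_projective (𝔍 : Ideal B)
    (hinj : Function.Injective ((mapBaseChange Λ A B).lTensor (B ⧸ 𝔍)))
    (hproj : Module.Projective (B ⧸ 𝔍) ((B ⧸ 𝔍) ⊗[B] (Ω[B⁄A]))) :
    ∃ l : (B ⧸ 𝔍) ⊗[B] Ω[B⁄Λ] →ₗ[B ⧸ 𝔍] (B ⧸ 𝔍) ⊗[B] (B ⊗[A] Ω[A⁄Λ]),
      l ∘ₗ (mapBaseChange Λ A B).baseChange (B ⧸ 𝔍) = LinearMap.id := by
  have hsurj : Function.Surjective (KaehlerDifferential.map Λ A B B) := KaehlerDifferential.map_surjective Λ A B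
  have hex : Function.Exact ((mapBaseChange Λ A B).baseChange (B ⧸ 𝔍))
      ((KaehlerDifferential.map Λ A B B).baseChange (B ⧸ 𝔍)) :=
    lTensor_exact (B ⧸ 𝔍) (KaehlerDifferential.exact_mapBaseChange_map Λ A B) hsurj
  have hs : Function.Surjective ((KaehlerDifferential.map Λ A B B).baseChange (B ⧸ 𝔍)) :=
    LinearMap.lTensor_surjective _ hsurj
  obtain ⟨s, hs'⟩ := Module.projective_lifting_property ((KaehlerDifferential.map Λ A B B).baseChange (B ⧸ 𝔍))
    LinearMap.id hs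
  have h12 := hex.split_tfae'.out 0 1
  obtain ⟨-, r, hr⟩ : Function.Surjective ((KaehlerDifferential.map Λ A B B).baseChange (B ⧸ 𝔍)) ∧
      ∃ r, r ∘ₗ ((mapBaseChange Λ A B).baseChange (B ⧸ 𝔍)) = LinearMap.id := h12.1 ⟨hinj, s, hs'⟩
  exact ⟨r, hr⟩

end K100.RelJac
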