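import Groth.Agent.EGA41.K100.CompSurj
import Groth.Agent.Ega41.CompKaehler
import Groth.Agent.Ega41.MvPS
import Mathlib.RingTheory.MvPowerSeries.Derivative
import Mathlib.RingTheory.Etale.Kaehler
import Mathlib.RingTheory.Etale.Field
import Mathlib.RingTheory.Localization.Integer
import Mathlib.FieldTheory.SeparableClosure
import Mathlib.RingTheory.Localization.FractionRing
import Mathlib.RingTheory.AdicCompletion.Noetherian

/-!
# Finite separable extensions of power series rings and completed differentials
-/

set_option autoImplicit false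
universe u

namespace K100.SepPS

open IsLocalRing TensorProduct

/-- If `M / I M` is finite over the `I`-adically complete ring `R` then `M → M^` is surjective. -/
theorem of_surjective {R : Type*} [CommRing R] (I : Ideal R) [IsPrecomplete I R] {M : Type*} [AddCommGroup M] [Module R M]
    (h : Module.Finite R (M ⧸ (I • ⊤ : Submodule R M))) : Function.Surjective (AdicCompletion.of I M) := by
  obtain ⟨n, s, hs⟩ := Module.Finite.exists_fin (R := R) (M := M ⧸ (I • ⊤ : Submodule R M))
  choose m hm using fun i ↦ Submodule.mkQ_surjective (I • ⊤ : Submodule R M) (s i)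
  let f : (Fin n → R) →ₗ[R] M := Fintype.linearCombination R m
  have hf : LinearMap.range f ⊔ (I • ⊤ : Submodule R M) = ⊤ := by
    have h1 : (LinearMap.range f).map (I • ⊤ : Submodule R M).mkQ = ⊤ := by
      rw [Fintype.range_linearCombination, Submodule.map_span, ← Set.range_comp, ← hs]
      congr 1
      ext x
      simp [hm]
    have h2 := congrArg (Submodule.comap (I • ⊤ : Submodule R M).mkQ) h1
    rw [Submodule.comap_map_mkQ, Submodule.comap_top, sup_comm] at h2
    exact h2
  have := Groth.Agent.Ega41.PowComplete.isPrecomplete_pi I (Fin n)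
  have h3 := K100.CompSurj.surjective_of_sup I f hf
  exact Function.Surjective.of_comp (g := f) h3

section

variable (k : Type u) [Field k] (r : ℕ) (A : Type u) [CommRing A] [Algebra (MvPowerSeries (Fin r) k) A]

local notation "A₀" => MvPowerSeries (Fin r) k

theorem isLocalHom [Module.Finite A₀ A] (hinj : Function.Injective (algebraMap A₀ A)) : IsLocalHom (algebraMap A₀ A) :=
  RingHom.IsIntegral.isLocalHom (algebraMap_isIntegral_iff.2 inferInstance) hinj

variable [IsLocalRing A] [Algebra k A] [IsScalarTower k (MvPowerSeries (Fin r) k) A]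

/-- The residue field of `A` is finite over `k`. -/
theorem finite_residue [Module.Finite A₀ A] (hinj : Function.Injective (algebraMap A₀ A)) :
    Module.Finite k (A ⧸ maximalIdeal A) := by
  classical
  have hloc := isLocalHom k r A hinj
  obtain ⟨n, s, hs⟩ := Module.Finite.exists_fin (R := A₀) (M := A)
  refine ⟨⟨Finset.univ.image fun i => Ideal.Quotient.mk (maximalIdeal A) (s i), ?_⟩⟩
  rw [eq_top_iff]
  rintro x -
  obtain ⟨a, rfl⟩ := Ideal.Quotient.mk_surjective x
  have ha : a ∈ Submodule.span A₀ (Set.range s) := by rw [hs]; trivial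
  obtain ⟨c, rfl⟩ := (Submodule.mem_span_range_iff_exists_fun A₀).1 ha
  rw [map_sum]
  refine Submodule.sum_mem _ fun i _ => ?_
  have h1 : Ideal.Quotient.mk (maximalIdeal A) (c i • s i) =
      (MvPowerSeries.constantCoeff (c i)) • Ideal.Quotient.mk (maximalIdeal A) (s i) := by
    have h2 : c i - MvPowerSeries.C (MvPowerSeries.constantCoeff (c i)) ∈ maximalIdeal A₀ := by
      rw [mem_maximalIdeal, mem_nonunits_iff, MvPowerSeries.isUnit_iff_constantCoeff, map_sub,
        MvPowerSeries.constantCoeff_C, sub_self]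
      exact not_isUnit_zero
    have h3 : algebraMap A₀ A (c i - MvPowerSeries.C (MvPowerSeries.constantCoeff (c i))) ∈ maximalIdeal A :=
      (map_mem_nonunits_iff (algebraMap A₀ A) _).2 h2
    have h4 : (MvPowerSeries.constantCoeff (c i)) • Ideal.Quotient.mk (maximalIdeal A) (s i) =
        Ideal.Quotient.mk (maximalIdeal A) (algebraMap A₀ A (MvPowerSeries.C (MvPowerSeries.constantCoeff (c i))) * s i) := by
      rw [Algebra.smul_def, map_mul]
      congr 1
      rw [IsScalarTower.algebraMap_apply k A (A ⧸ maximalIdeal A), IsScalarTower.algebraMap_apply k A₀ A]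
      rfl
    rw [h4, Ideal.Quotient.eq, Algebra.smul_def, ← sub_mul, ← map_sub]
    exact Ideal.mul_mem_right _ _ h3
  rw [h1]
  exact Submodule.smul_mem _ _ (Submodule.subset_span (by simp))

/-- Polynomials are dense in the power series ring. -/
theorem exists_poly (n : ℕ) (f : A₀) :
    ∃ p ∈ Algebra.adjoin k (Set.range (MvPowerSeries.X : Fin r → A₀)), f - p ∈ maximalIdeal A₀ ^ n := by
  refine ⟨((MvPowerSeries.truncTotal n f : MvPolynomial (Fin r) k) : MvPowerSeries (Fin r) k), ?_, ?_⟩
  · have h1 : ∀ p : MvPolynomial (Fin r) k, (p : MvPowerSeries (Fin r) k) ∈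
        Algebra.adjoin k (Set.range (MvPowerSeries.X : Fin r → MvPowerSeries (Fin r) k)) := by
      intro p
      induction p using MvPolynomial.induction_on with
      | C a =>
        rw [MvPolynomial.coe_C]
        exact Subalgebra.algebraMap_mem _ a
      | add p q hp hq =>
        rw [MvPolynomial.coe_add]
        exact add_mem hp hq
      | mul_X p i hp =>
        rw [MvPolynomial.coe_mul, MvPolynomial.coe_X]
        exact mul_mem hp (Algebra.subset_adjoin ⟨i, rfl⟩)
    exact h1 _
  · rw [Groth.Agent.Ega41.MvPS.maximalIdeal_eq]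
    exact Groth.Agent.Ega41.MvPS.sub_truncTotal_mem n f

/-- The differential of a power series in the completed differentials of `A`. -/
theorem of_D_eq [Module.Finite A₀ A] (hinj : Function.Injective (algebraMap A₀ A)) (a : A₀) :
    AdicCompletion.of (maximalIdeal A) (Ω[A⁄k]) (KaehlerDifferential.D k A (algebraMap A₀ A a)) =
      ∑ i, algebraMap A₀ A (MvPowerSeries.pderiv k i a) •
        AdicCompletion.of (maximalIdeal A) (Ω[A⁄k]) (KaehlerDifferential.D k A (algebraMap A₀ A (MvPowerSeries.X i))) := by
  classical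
  have hloc := isLocalHom k r A hinj
  let T : Fin r → Ω[A⁄k] := fun i => KaehlerDifferential.D k A (algebraMap A₀ A (MvPowerSeries.X i))
  let e₁ : Derivation k A₀ (Ω[A⁄k]) := (KaehlerDifferential.D k A).compAlgebraMap A₀
  let e₂ : Derivation k A₀ (Ω[A⁄k]) :=
    ∑ i, (LinearMap.toSpanSingleton A₀ (Ω[A⁄k]) (T i)).compDer (MvPowerSeries.pderiv k i)
  have he₂ : ∀ a, e₂ a = ∑ i, algebraMap A₀ A (MvPowerSeries.pderiv k i a) • T i := by
    intro a
    change (∑ i, (LinearMap.toSpanSingleton A₀ (Ω[A⁄k]) (T i)).compDer (MvPowerSeries.pderiv k i) :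
      Derivation k A₀ (Ω[A⁄k])) a = _
    have hsum := congrFun (map_sum (Derivation.coeFnAddMonoidHom (R := k) (A := A₀) (M := Ω[A⁄k]))
      (fun i => (LinearMap.toSpanSingleton A₀ (Ω[A⁄k]) (T i)).compDer (MvPowerSeries.pderiv k i)) Finset.univ) a
    rw [Finset.sum_apply] at hsum
    refine hsum.trans ?_
    refine Finset.sum_congr rfl fun i _ => ?_
    change (MvPowerSeries.pderiv k i a) • T i = _
    rw [algebraMap_smul]
  have hmem : ∀ n : ℕ, e₁ a - e₂ a ∈ (maximalIdeal A ^ n • ⊤ : Submodule A (Ω[A⁄k])) := by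
    intro n
    obtain ⟨p, hp, hap⟩ := exists_poly k r (n + 1) a
    have h1 : e₁ p = e₂ p := by
      refine Derivation.eqOn_adjoin (s := Set.range (MvPowerSeries.X : Fin r → A₀)) ?_ hp
      rintro _ ⟨j, rfl⟩
      rw [he₂, Finset.sum_eq_single j]
      · rw [MvPowerSeries.pderiv_X, Pi.single_eq_same, map_one, one_smul]
        rfl
      · intro b _ hb
        rw [MvPowerSeries.pderiv_X, Pi.single_eq_of_ne (Ne.symm hb), map_zero, zero_smul]
      · intro h
        exact absurd (Finset.mem_univ _) h
    have hpow : ∀ (m : ℕ) (t : A₀), t ∈ maximalIdeal A₀ ^ m → algebraMap A₀ A t ∈ maximalIdeal A ^ m := by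
      intro m t ht
      have h2 : (maximalIdeal A₀).map (algebraMap A₀ A) ≤ maximalIdeal A := by
        rw [Ideal.map_le_iff_le_comap]
        intro x hx
        exact (map_mem_nonunits_iff (algebraMap A₀ A) _).2 hx
      have h3 : algebraMap A₀ A t ∈ (maximalIdeal A₀ ^ m).map (algebraMap A₀ A) := Ideal.mem_map_of_mem _ ht
      rw [Ideal.map_pow] at h3
      exact Ideal.pow_right_mono h2 m h3
    have h2 : e₁ a - e₂ a = e₁ (a - p) - e₂ (a - p) := by
      rw [map_sub, map_sub, h1]
      abel
    rw [h2]
    refine Submodule.sub_mem _ ?_ ?_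
    · exact Groth.Agent.Ega41.CompKaehler.derivation_mem_pow_smul (maximalIdeal A) (KaehlerDifferential.D k A) n _
        (hpow (n + 1) _ hap)
    · rw [he₂]
      refine Submodule.sum_mem _ fun i _ => Submodule.smul_mem_smul (hpow n _ ?_) trivial
      have h4 := Groth.Agent.Ega41.CompKaehler.derivation_mem_pow_smul (maximalIdeal A₀) (MvPowerSeries.pderiv k i) n _ hap
      simpa using h4
  have h5 : AdicCompletion.of (maximalIdeal A) (Ω[A⁄k]) (e₁ a - e₂ a) = 0 := by
    ext n
    change (Submodule.Quotient.mk (e₁ a - e₂ a) : Ω[A⁄k] ⧸ (maximalIdeal A ^ n • ⊤ : Submodule A (Ω[A⁄k]))) = 0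
    rw [Submodule.Quotient.mk_eq_zero]
    exact hmem n
  rw [map_sub, sub_eq_zero, he₂, map_sum] at h5
  simp only [map_smul] at h5
  exact h5

omit [IsLocalRing A] [IsScalarTower k (MvPowerSeries (Fin r) k) A] in
/-- In `Ω_{A/k}`, modulo the differentials of the elements of `A₀`, `d (P(x)) = P'(x) dx`. -/
theorem D_aeval_sub_mem (x : A) (P : Polynomial A₀) :
    KaehlerDifferential.D k A (Polynomial.aeval x P) - (Polynomial.aeval x P.derivative) • KaehlerDifferential.D k A x ∈
      Submodule.span A (Set.range fun a : A₀ => KaehlerDifferential.D k A (algebraMap A₀ A a)) := by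
  induction P using Polynomial.induction_on with
  | C a =>
    rw [Polynomial.aeval_C, Polynomial.derivative_C, map_zero, zero_smul, sub_zero]
    exact Submodule.subset_span ⟨a, rfl⟩
  | add p q hp hq =>
    rw [map_add, map_add, Polynomial.derivative_add, map_add, add_smul, add_sub_add_comm]
    exact add_mem hp hq
  | monomial n a _ =>
    have e1 : Polynomial.aeval x (Polynomial.C a * Polynomial.X ^ (n + 1) : Polynomial A₀) =
        algebraMap A₀ A a * x ^ (n + 1) := by simp
    have e2 : Polynomial.aeval x (Polynomial.derivative (Polynomial.C a * Polynomial.X ^ (n + 1) : Polynomial A₀)) =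
        algebraMap A₀ A a * (algebraMap A₀ A ((n + 1 : ℕ) : A₀) * x ^ n) := by
      rw [Polynomial.derivative_C_mul, Polynomial.derivative_X_pow, map_mul, Polynomial.aeval_C, map_mul,
        Polynomial.aeval_C, map_pow, Polynomial.aeval_X, Nat.add_sub_cancel]
    rw [e1, e2, Derivation.leibniz, Derivation.leibniz_pow, Nat.add_sub_cancel]
    have h1 : algebraMap A₀ A a • (n + 1) • x ^ n • KaehlerDifferential.D k A x =
        (algebraMap A₀ A a * (algebraMap A₀ A ((n + 1 : ℕ) : A₀) * x ^ n)) • KaehlerDifferential.D k A x := by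
      rw [map_natCast, mul_smul, mul_smul, Nat.cast_smul_eq_nsmul]
    rw [h1, add_sub_cancel_left]
    exact Submodule.smul_mem _ _ (Submodule.subset_span ⟨a, rfl⟩)

end

end K100.SepPS
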