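import Groth.Agent.EGA41.K100.SepPS

/-!
# Derivations of a finite separable extension of a power series ring
-/

set_option autoImplicit false
universe u

namespace K100.SepPS2

open IsLocalRing TensorProduct

/-- Derivations extend along formally étale algebras. -/
theorem exists_derivation_extend {S A : Type*} [CommRing S] [CommRing A] [Algebra S A]
    [Algebra.FormallyEtale S A] (D : Derivation ℤ S S) :
    ∃ D' : Derivation ℤ A A, ∀ s, D' (algebraMap S A s) = algebraMap S A (D s) := by
  let l : Ω[S⁄ℤ] →ₗ[S] A := (Algebra.linearMap S A) ∘ₗ D.liftKaehlerDifferential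
  let l' : Ω[A⁄ℤ] →ₗ[A] A := (l.liftBaseChange A) ∘ₗ
    (KaehlerDifferential.tensorKaehlerEquivOfFormallyEtale ℤ S A).symm.toLinearMap
  refine ⟨l'.compDer (KaehlerDifferential.D ℤ A), fun s => ?_⟩
  change l.liftBaseChange A ((KaehlerDifferential.tensorKaehlerEquivOfFormallyEtale ℤ S A).symm
    (KaehlerDifferential.D ℤ A (algebraMap S A s))) = _
  rw [KaehlerDifferential.tensorKaehlerEquivOfFormallyEtale_symm_D_algebraMap]
  simp [l]

section

variable (A₀ A : Type u) [CommRing A₀] [IsDomain A₀] [CommRing A] [IsDomain A] [Algebra A₀ A]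

/-- If every element of `A` is a root of a polynomial over `A₀` separable over `Frac A₀`, then `Frac A` is formally étale
over `A₀`. -/
theorem formallyEtale_fractionRing (hinj : Function.Injective (algebraMap A₀ A))
    (hsep : ∀ a : A, ∃ P : Polynomial A₀, Polynomial.aeval a P = 0 ∧
      (P.map (algebraMap A₀ (FractionRing A₀))).Separable) :
    Algebra.FormallyEtale A₀ (FractionRing A) := by
  have hinj' : Function.Injective (algebraMap A₀ (FractionRing A)) := by
    rw [IsScalarTower.algebraMap_eq A₀ A (FractionRing A)]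
    exact (IsFractionRing.injective A (FractionRing A)).comp hinj
  have : FaithfulSMul A₀ (FractionRing A) := (faithfulSMul_iff_algebraMap_injective _ _).2 hinj'
  let _ : Algebra (FractionRing A₀) (FractionRing A) := FractionRing.liftAlgebra A₀ (FractionRing A)
  have hA : ∀ x : A, algebraMap A (FractionRing A) x ∈ separableClosure (FractionRing A₀) (FractionRing A) := by
    intro x
    rw [mem_separableClosure_iff]
    obtain ⟨P, hP, hPsep⟩ := hsep x
    refine Polynomial.Separable.of_dvd hPsep (minpoly.dvd _ _ ?_)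
    rw [Polynomial.aeval_map_algebraMap, Polynomial.aeval_algebraMap_apply, hP, map_zero]
  have htop : separableClosure (FractionRing A₀) (FractionRing A) = ⊤ := by
    rw [eq_top_iff]
    rintro x -
    obtain ⟨a, b, hb, rfl⟩ := IsFractionRing.div_surjective (A := A) x
    exact div_mem (hA a) (hA b)
  have : Algebra.IsSeparable (FractionRing A₀) (FractionRing A) := (separableClosure.eq_top_iff _ _).1 htop
  have : Algebra.FormallyEtale (FractionRing A₀) (FractionRing A) := Algebra.FormallyEtale.of_isSeparable _ _
  have : Algebra.FormallyEtale A₀ (FractionRing A₀) := Algebra.FormallyEtale.of_isLocalization (nonZeroDivisors A₀)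
  exact Algebra.FormallyEtale.comp A₀ (FractionRing A₀) (FractionRing A)

omit [IsDomain A₀] in
/-- Extension of a derivation of `A₀` to `A`, up to a denominator; `E` the fraction field of `A`. -/
theorem exists_derivation_aux [Module.Finite A₀ A] (E : Type u) [Field E] [Algebra A E] [IsFractionRing A E]
    [Algebra A₀ E] [IsScalarTower A₀ A E] [Algebra.FormallyEtale A₀ E] (D : Derivation ℤ A₀ A₀) :
    ∃ (g : A) (D' : Derivation ℤ A A), g ≠ 0 ∧ ∀ a : A₀, D' (algebraMap A₀ A a) = g * algebraMap A₀ A (D a) := by
  have hAE : Function.Injective (algebraMap A E) := IsFractionRing.injective A E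
  obtain ⟨δ, hδ⟩ := exists_derivation_extend (A := E) D
  obtain ⟨n, s, hs⟩ := Module.Finite.exists_fin (R := A₀) (M := A)
  obtain ⟨g, hg⟩ := IsLocalization.exist_integer_multiples_of_finite (nonZeroDivisors A) (S := E)
    (fun i => δ (algebraMap A E (s i)))
  have hx : ∀ x : A, ∃ y : A, algebraMap A E y = algebraMap A E g * δ (algebraMap A E x) := by
    intro x
    have hx : x ∈ Submodule.span A₀ (Set.range s) := by rw [hs]; trivial
    induction hx using Submodule.span_induction with
    | mem x hx =>
      obtain ⟨i, rfl⟩ := hx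
      obtain ⟨y, hy⟩ := hg i
      exact ⟨y, by rw [hy, Algebra.smul_def]⟩
    | zero => exact ⟨0, by simp⟩
    | add x y _ _ hx hy =>
      obtain ⟨x', hx'⟩ := hx
      obtain ⟨y', hy'⟩ := hy
      exact ⟨x' + y', by rw [map_add, map_add, map_add, hx', hy', mul_add]⟩
    | smul a x _ hx =>
      obtain ⟨x', hx'⟩ := hx
      refine ⟨algebraMap A₀ A a * x' + g * x * algebraMap A₀ A (D a), ?_⟩
      rw [Algebra.smul_def, map_mul, Derivation.leibniz, map_add, map_mul, map_mul, map_mul, hx',
        ← IsScalarTower.algebraMap_apply A₀ A E, hδ, smul_eq_mul, smul_eq_mul, ← IsScalarTower.algebraMap_apply A₀ A E]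
      ring
  choose y hy using hx
  let F : A →+ A := AddMonoidHom.mk' y fun a b => by
    apply hAE
    rw [map_add, hy, hy, hy, map_add, map_add, mul_add]
  refine ⟨g, Derivation.mk' F.toIntLinearMap fun a b => ?_, nonZeroDivisors.coe_ne_zero g, fun a => ?_⟩
  · change y (a * b) = a • y b + b • y a
    apply hAE
    rw [smul_eq_mul, smul_eq_mul, map_add, map_mul, map_mul, hy, hy, hy, map_mul, Derivation.leibniz, smul_eq_mul,
      smul_eq_mul]
    ring
  · change y (algebraMap A₀ A a) = _
    apply hAE
    rw [hy, map_mul, ← IsScalarTower.algebraMap_apply A₀ A E, ← IsScalarTower.algebraMap_apply A₀ A E, hδ]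

/-- Extension of a derivation of `A₀` to `A`, up to a denominator. -/
theorem exists_derivation [Module.Finite A₀ A] (hinj : Function.Injective (algebraMap A₀ A))
    (hsep : ∀ a : A, ∃ P : Polynomial A₀, Polynomial.aeval a P = 0 ∧
      (P.map (algebraMap A₀ (FractionRing A₀))).Separable) (D : Derivation ℤ A₀ A₀) :
    ∃ (g : A) (D' : Derivation ℤ A A), g ≠ 0 ∧ ∀ a : A₀, D' (algebraMap A₀ A a) = g * algebraMap A₀ A (D a) := by
  have := formallyEtale_fractionRing A₀ A hinj hsep
  exact exists_derivation_aux A₀ A (FractionRing A) D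

/-- The same with the derivation given by a function. -/
theorem exists_derivation_fun [Module.Finite A₀ A] (hinj : Function.Injective (algebraMap A₀ A))
    (hsep : ∀ a : A, ∃ P : Polynomial A₀, Polynomial.aeval a P = 0 ∧
      (P.map (algebraMap A₀ (FractionRing A₀))).Separable) (d : A₀ → A₀) (hadd : ∀ a b, d (a + b) = d a + d b)
    (hmul : ∀ a b, d (a * b) = a • d b + b • d a) :
    ∃ (g : A) (D' : A → A), g ≠ 0 ∧ (∀ a b, D' (a + b) = D' a + D' b) ∧ (∀ a b, D' (a * b) = a * D' b + b * D' a) ∧
      ∀ a : A₀, D' (algebraMap A₀ A a) = g * algebraMap A₀ A (d a) := by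
  obtain ⟨g, D', hg, h⟩ := exists_derivation A₀ A hinj hsep
    (Derivation.mk' (AddMonoidHom.mk' d hadd).toIntLinearMap hmul)
  exact ⟨g, D', hg, map_add D', D'.leibniz, h⟩

end

end K100.SepPS2
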