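import Groth.Agent.Ega41.TrivExt
import Mathlib.RingTheory.Kaehler.Basic
import Mathlib.RingTheory.Unramified.Basic
import Mathlib.RingTheory.Derivation.ToSquareZero
import Mathlib.LinearAlgebra.TensorProduct.Quotient

/-!
# Formally unramified algebras for adic topologies

* `eq_of_smul_top`: `𝔟 Ω_{B/A} = Ω_{B/A}` implies uniqueness of lifts of continuous maps along nilpotent ideals.
* `smul_top_of_eq`: the converse.
* `smul_top_of_subsingleton`, `subsingleton_of_eq`: the case of the deduced topology.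
-/

set_option autoImplicit false
universe u v w

namespace K100.Unram

section

variable {A : Type u} {B : Type v} [CommRing A] [CommRing B] [Algebra A B] (𝔟 : Ideal B)

/-- One step, with an ideal of square zero. -/
theorem eq_of_sq_zero (hΩ : (𝔟 • ⊤ : Submodule B (Ω[B⁄A])) = ⊤) {E : Type w} [CommRing E] [Algebra A E] (I : Ideal E)
    (hI : I ^ 2 = ⊥) (w₁ w₂ : B →ₐ[A] E) (h : ∀ b, w₁ b - w₂ b ∈ I) (m : ℕ) (hm : ∀ x ∈ 𝔟 ^ m, w₂ x = 0) :
    w₁ = w₂ := by
  let _ : Algebra B E := w₂.toRingHom.toAlgebra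
  have halg : ∀ b, algebraMap B E b = w₂ b := fun b => rfl
  have : IsScalarTower A B E := IsScalarTower.of_algebraMap_eq fun a => (w₂.commutes a).symm
  have he : (Ideal.Quotient.mkₐ A I).comp w₁ = IsScalarTower.toAlgHom A B (E ⧸ I) := by
    ext b
    change Ideal.Quotient.mk I (w₁ b) = Ideal.Quotient.mk I (w₂ b)
    rw [Ideal.Quotient.eq]
    exact h b
  let D := derivationToSquareZeroOfLift I hI w₁ he
  have hD : ∀ b, ((D b : I) : E) = w₁ b - w₂ b := fun b => rfl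
  have hn : ∀ n : ℕ, (𝔟 ^ n • ⊤ : Submodule B (Ω[B⁄A])) = ⊤ := by
    intro n
    induction n with
    | zero => simp
    | succ n ih => rw [pow_succ, Submodule.mul_smul, hΩ, ih]
  have hzero : D.liftKaehlerDifferential = 0 := by
    have h1 : (𝔟 ^ m • ⊤ : Submodule B (Ω[B⁄A])) ≤ LinearMap.ker D.liftKaehlerDifferential := by
      rw [Submodule.smul_le]
      intro r hr x _
      rw [LinearMap.mem_ker, map_smul]
      ext
      change w₂ r * _ = 0
      rw [hm r hr, zero_mul]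
    rw [hn m, top_le_iff] at h1
    exact LinearMap.ker_eq_top.1 h1
  ext b
  have h2 : D b = 0 := by
    rw [← Derivation.liftKaehlerDifferential_comp_D, hzero, LinearMap.zero_apply]
  have h3 := hD b
  rw [h2] at h3
  exact sub_eq_zero.1 h3.symm

/-- Uniqueness of lifts along nilpotent ideals. -/
theorem eq_of_smul_top (hΩ : (𝔟 • ⊤ : Submodule B (Ω[B⁄A])) = ⊤) {E : Type w} [CommRing E] [Algebra A E] (J : Ideal E)
    (hJ : IsNilpotent J) (v₁ v₂ : B →ₐ[A] E) (m : ℕ) (hm : ∀ x ∈ 𝔟 ^ m, v₂ x = 0)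
    (h : ∀ b, Ideal.Quotient.mk J (v₁ b) = Ideal.Quotient.mk J (v₂ b)) : v₁ = v₂ := by
  have key : ∀ n : ℕ, ∀ b, v₁ b - v₂ b ∈ J ^ (n + 1) := by
    intro n
    induction n with
    | zero =>
      intro b
      rw [zero_add, pow_one]
      exact Ideal.Quotient.eq.1 (h b)
    | succ n ih =>
      intro b
      let q : E →ₐ[A] E ⧸ J ^ (n + 1 + 1) := Ideal.Quotient.mkₐ A _
      have h1 : q.comp v₁ = q.comp v₂ := by
        refine eq_of_sq_zero 𝔟 hΩ ((J ^ (n + 1)).map (Ideal.Quotient.mk (J ^ (n + 1 + 1)))) ?_ _ _ ?_ m ?_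
        · rw [← Ideal.map_pow, ← pow_mul, Ideal.map_eq_bot_iff_le_ker, Ideal.mk_ker]
          exact Ideal.pow_le_pow_right (by lia)
        · intro b
          change Ideal.Quotient.mk _ (v₁ b) - Ideal.Quotient.mk _ (v₂ b) ∈ _
          rw [← map_sub]
          exact Ideal.mem_map_of_mem _ (ih b)
        · intro x hx
          change q (v₂ x) = 0
          rw [hm x hx, map_zero]
      have h2 := DFunLike.congr_fun h1 b
      exact Ideal.Quotient.eq.1 h2
  obtain ⟨N, hN⟩ := hJ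
  ext b
  have h1 := key N b
  rw [pow_succ, hN] at h1
  simpa [sub_eq_zero] using h1

end

section converse

variable {A B : Type u} [CommRing A] [CommRing B] [Algebra A B] (𝔟 : Ideal B)

/-- If continuous lifts are unique for the algebras `B/𝔟 ⊕ Ω/𝔟Ω`, then `𝔟Ω = Ω`. -/
theorem smul_top_of_eq
    (H : ∀ (E : Type u) [CommRing E] [Algebra A E] (J : Ideal E), J ^ 2 = ⊥ →
      (∀ a : A, algebraMap A B a ∈ 𝔟 → algebraMap A E a = 0) →
      ∀ v₁ v₂ : B →ₐ[A] E, (∀ x ∈ 𝔟 ^ 2, v₁ x = 0) → (∀ x ∈ 𝔟 ^ 2, v₂ x = 0) →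
        (∀ b : B, Ideal.Quotient.mk J (v₁ b) = Ideal.Quotient.mk J (v₂ b)) → v₁ = v₂) :
    (𝔟 • ⊤ : Submodule B (Ω[B⁄A])) = ⊤ := by
  let N := Ω[B⁄A] ⧸ (𝔟 • ⊤ : Submodule B (Ω[B⁄A]))
  let E := Groth.Agent.Ega41.TrivExt.Ext (B ⧸ 𝔟) N
  let π : Ω[B⁄A] →ₗ[B] N := (𝔟 • ⊤ : Submodule B (Ω[B⁄A])).mkQ
  have hsm : ∀ (b : B) (x : N), (Ideal.Quotient.mk 𝔟 b) • x = b • x := fun b x => rfl
  let f₁ : B →+* E := Groth.Agent.Ega41.TrivExt.Ext.lift (Ideal.Quotient.mk 𝔟)
    (AddMonoidHom.mk' (fun b => π (KaehlerDifferential.D A B b)) (fun a b => by rw [map_add, map_add])) (by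
      change π (KaehlerDifferential.D A B 1) = 0
      rw [Derivation.map_one_eq_zero, map_zero]) (fun a b => by
      change π (KaehlerDifferential.D A B (a * b)) = _
      rw [Derivation.leibniz, map_add, map_smul, map_smul]
      rfl)
  let f₂ : B →+* E := Groth.Agent.Ega41.TrivExt.Ext.lift (Ideal.Quotient.mk 𝔟) 0 (by simp) (fun a b => by simp)
  let _ : Algebra A E := (f₂.comp (algebraMap A B)).toAlgebra
  have hcomm : ∀ a, f₁ (algebraMap A B a) = algebraMap A E a := by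
    intro a
    change f₁ (algebraMap A B a) = f₂ (algebraMap A B a)
    refine Groth.Agent.Ega41.TrivExt.Ext.ext' rfl ?_
    change π (KaehlerDifferential.D A B (algebraMap A B a)) = 0
    rw [Derivation.map_algebraMap, map_zero]
  let v₁ : B →ₐ[A] E := { f₁ with commutes' := hcomm }
  let v₂ : B →ₐ[A] E := { f₂ with commutes' := fun a => rfl }
  have h1 : v₁ = v₂ := by
    refine H E (RingHom.ker (Groth.Agent.Ega41.TrivExt.Ext.proj : E →+* B ⧸ 𝔟)) Groth.Agent.Ega41.TrivExt.Ext.ker_proj_sq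
      ?_ v₁ v₂ ?_ ?_ ?_
    · intro a ha
      refine Groth.Agent.Ega41.TrivExt.Ext.ext' ?_ rfl
      exact Ideal.Quotient.eq_zero_iff_mem.2 ha
    · intro x hx
      rw [pow_two] at hx
      refine Submodule.mul_induction_on hx (fun a ha b hb => ?_) (fun a b ha hb => by rw [map_add, ha, hb, add_zero])
      refine Groth.Agent.Ega41.TrivExt.Ext.ext' ?_ ?_
      · exact Ideal.Quotient.eq_zero_iff_mem.2 (Ideal.mul_mem_left _ _ hb)
      · change π (KaehlerDifferential.D A B (a * b)) = 0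
        rw [Derivation.leibniz]
        exact (Submodule.Quotient.mk_eq_zero _).2 (Submodule.add_mem _ (Submodule.smul_mem_smul ha trivial)
          (Submodule.smul_mem_smul hb trivial))
    · intro x hx
      refine Groth.Agent.Ega41.TrivExt.Ext.ext' ?_ rfl
      exact Ideal.Quotient.eq_zero_iff_mem.2 (Ideal.pow_le_self two_ne_zero hx)
    · intro b
      rw [Ideal.Quotient.eq]
      change Groth.Agent.Ega41.TrivExt.Ext.proj (v₁ b - v₂ b) = 0
      rw [map_sub]
      exact sub_self _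
  refine eq_top_iff.2 ((KaehlerDifferential.span_range_derivation A B).ge.trans ?_)
  rw [Submodule.span_le]
  rintro _ ⟨b, rfl⟩
  have h2 := congrArg Groth.Agent.Ega41.TrivExt.Ext.snd (DFunLike.congr_fun h1 b)
  exact (Submodule.Quotient.mk_eq_zero _).1 h2

end converse

section deduced

variable {A B : Type u} [CommRing A] [CommRing B] [Algebra A B] (𝔪 : Ideal A)

open TensorProduct in
/-- If `Ω_{B₀/A₀} = 0` then `𝔪 Ω_{B/A} = Ω_{B/A}`. -/
theorem smul_top_of_subsingleton (h : Subsingleton (Ω[B ⧸ 𝔪.map (algebraMap A B)⁄A ⧸ 𝔪])) :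
    (𝔪.map (algebraMap A B) • ⊤ : Submodule B (Ω[B⁄A])) = ⊤ := by
  set 𝔟 := 𝔪.map (algebraMap A B) with h𝔟
  have h1 : Algebra.FormallyUnramified (A ⧸ 𝔪) (B ⧸ 𝔟) := ⟨h⟩
  have h2 : Algebra.FormallyUnramified A (A ⧸ 𝔪) := Algebra.FormallyUnramified.of_surjective
    (Algebra.ofId A (A ⧸ 𝔪)) Ideal.Quotient.mk_surjective
  have h3 : Algebra.FormallyUnramified A (B ⧸ 𝔟) := Algebra.FormallyUnramified.comp A (A ⧸ 𝔪) (B ⧸ 𝔟)
  have h4 : Subsingleton (Ω[B ⧸ 𝔟⁄A]) := h3.1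
  have hex := KaehlerDifferential.exact_kerCotangentToTensor_mapBaseChange A B (B ⧸ 𝔟)
    Ideal.Quotient.mk_surjective
  have hker : RingHom.ker (algebraMap B (B ⧸ 𝔟)) = 𝔟 := by
    rw [Ideal.Quotient.algebraMap_eq, Ideal.mk_ker]
  have hz : ∀ x ∈ 𝔟, (1 : B ⧸ 𝔟) ⊗ₜ[B] (KaehlerDifferential.D A B x) = 0 := by
    intro x hx
    have hx' : x ∈ Submodule.span B (algebraMap A B '' (𝔪 : Set A)) := hx
    clear hx
    induction hx' using Submodule.span_induction with
    | mem x hx =>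
      obtain ⟨a, -, rfl⟩ := hx
      rw [Derivation.map_algebraMap, tmul_zero]
    | zero => rw [map_zero, tmul_zero]
    | add x y hx hy ihx ihy => rw [map_add, tmul_add, ihx, ihy, add_zero]
    | smul b x hx ih =>
      have hx0 : (Ideal.Quotient.mk 𝔟 x) = 0 := Ideal.Quotient.eq_zero_iff_mem.2 hx
      rw [smul_eq_mul, Derivation.leibniz, tmul_add, tmul_smul, ih, smul_zero, zero_add, ← smul_tmul,
        Algebra.smul_def, mul_one, Ideal.Quotient.algebraMap_eq, hx0, zero_tmul]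
  have hsub : Subsingleton ((B ⧸ 𝔟) ⊗[B] Ω[B⁄A]) := by
    refine subsingleton_of_forall_eq 0 fun y => ?_
    obtain ⟨c, rfl⟩ := (hex y).1 (Subsingleton.elim _ _)
    obtain ⟨c, rfl⟩ := Ideal.toCotangent_surjective _ c
    rw [KaehlerDifferential.kerCotangentToTensor_toCotangent]
    have hc : (c : B) ∈ 𝔟 := hker.le c.2
    exact hz _ hc
  have := (TensorProduct.quotTensorEquivQuotSMul (Ω[B⁄A]) 𝔟).symm.subsingleton
  exact Submodule.Quotient.subsingleton_iff.1 this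

/-- Uniqueness of lifts for `A`-algebras killed by `𝔪` gives `Ω_{B₀/A₀} = 0`. -/
theorem subsingleton_of_eq
    (H : ∀ (E : Type u) [CommRing E] [Algebra A E], 𝔪.map (algebraMap A E) = ⊥ →
      ∀ J : Ideal E, J ^ 2 = ⊥ → ∀ v₁ v₂ : B →ₐ[A] E,
        (∀ b : B, Ideal.Quotient.mk J (v₁ b) = Ideal.Quotient.mk J (v₂ b)) → v₁ = v₂) :
    Subsingleton (Ω[B ⧸ 𝔪.map (algebraMap A B)⁄A ⧸ 𝔪]) := by
  set 𝔟 := 𝔪.map (algebraMap A B) with h𝔟
  suffices h : Algebra.FormallyUnramified (A ⧸ 𝔪) (B ⧸ 𝔟) from h.1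
  rw [Algebra.FormallyUnramified.iff_comp_injective]
  intro E _ _ I hI f g hfg
  let _ : Algebra A E := ((algebraMap (A ⧸ 𝔪) E).comp (Ideal.Quotient.mk 𝔪)).toAlgebra
  have : IsScalarTower A (A ⧸ 𝔪) E := IsScalarTower.of_algebraMap_eq fun x => rfl
  have hE : 𝔪.map (algebraMap A E) = ⊥ := by
    rw [Ideal.map_eq_bot_iff_le_ker]
    intro a ha
    rw [RingHom.mem_ker]
    change algebraMap (A ⧸ 𝔪) E (Ideal.Quotient.mk 𝔪 a) = 0
    rw [Ideal.Quotient.eq_zero_iff_mem.2 ha, map_zero]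
  have h1 := H E hE I hI ((f.restrictScalars A).comp (Ideal.Quotient.mkₐ A 𝔟))
    ((g.restrictScalars A).comp (Ideal.Quotient.mkₐ A 𝔟)) (fun b => DFunLike.congr_fun hfg (Ideal.Quotient.mk 𝔟 b))
  ext x
  obtain ⟨b, rfl⟩ := Ideal.Quotient.mk_surjective x
  exact DFunLike.congr_fun h1 b

end deduced

end K100.Unram
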