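import Groth.Agent.Ega41.SplitSpread
import Mathlib.RingTheory.Kaehler.Basic
import Mathlib.RingTheory.Smooth.Basic
import Mathlib.RingTheory.LocalRing.ResidueField.Ideal
import Mathlib.LinearAlgebra.Dual.Lemmas
import Mathlib.LinearAlgebra.Matrix.ToLinearEquiv

/-!
# The Jacobian criterion with derivations of the ambient ring

`A → B → C` with `B` formally smooth over `A`, `B → C` surjective with finitely generated kernel `J`, `p` a prime of `C` with preimage `q`
in `B`. The map `κ(p) ⊗ J/J² → κ(p) ⊗ Ω_{B/A}` is injective iff there are `f₁, …, f_m ∈ J` generating `J` at `q` and `A`-derivations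
`D₁, …, D_m` of `B` with `det (D_j f_i) ∉ q`.
-/

set_option autoImplicit false
universe u v

namespace K100.ZarJac

open TensorProduct KaehlerDifferential

variable {A B C : Type u} [CommRing A] [CommRing B] [CommRing C] [Algebra A B] [Algebra B C]

/-- `K ⊗ J/J²` is spanned by the `1 ⊗ [j]`. -/
theorem span_eq_top (K : Type u) [CommRing K] [Algebra B K] (J : Ideal B) :
    Submodule.span K (Set.range fun j : J => (1 : K) ⊗ₜ[B] J.toCotangent j) = ⊤ := by
  rw [← top_le_iff]
  rintro x -
  induction x using TensorProduct.induction_on with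
  | zero => exact zero_mem _
  | tmul r c =>
    obtain ⟨j, rfl⟩ := Ideal.toCotangent_surjective _ c
    have : r ⊗ₜ[B] J.toCotangent j = r • ((1 : K) ⊗ₜ[B] J.toCotangent j) := by
      rw [TensorProduct.smul_tmul', smul_eq_mul, mul_one]
    rw [this]
    exact Submodule.smul_mem _ _ (Submodule.subset_span ⟨j, rfl⟩)
  | add x y hx hy => exact add_mem hx hy

theorem jacobian_of_injective [Algebra.FormallySmooth A B]
    (hfg : (RingHom.ker (algebraMap B C)).FG) (p : Ideal C) [p.IsPrime]
    (h : Function.Injective ((kerCotangentToTensor A B C).lTensor p.ResidueField)) :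
    ∃ (m : ℕ) (f : Fin m → B) (D : Fin m → Derivation A B B), (∀ i, f i ∈ RingHom.ker (algebraMap B C)) ∧
      (∃ g : B, g ∉ p.comap (algebraMap B C) ∧ ∀ x ∈ RingHom.ker (algebraMap B C), g * x ∈ Ideal.span (Set.range f)) ∧
      Matrix.det (Matrix.of fun i j => D j (f i)) ∉ p.comap (algebraMap B C) := by
  classical
  let K := p.ResidueField
  let J : Ideal B := RingHom.ker (algebraMap B C)
  let q : Ideal B := p.comap (algebraMap B C)
  have hJfin : Module.Finite B J := Module.Finite.iff_fg.2 hfg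
  have hfin0 : Module.Finite B J.Cotangent := Module.Finite.of_surjective _ (Ideal.toCotangent_surjective _)
  have hKzero : ∀ b : B, algebraMap B K b = 0 ↔ b ∈ q := by
    intro b
    rw [IsScalarTower.algebraMap_apply B C K]
    exact Ideal.algebraMap_residueField_eq_zero
  -- a basis of `K ⊗ J/J²`
  obtain ⟨κ, a, ha, hsp, hli⟩ := exists_linearIndependent' K (fun j : J => (1 : K) ⊗ₜ[B] J.toCotangent j)
  rw [span_eq_top] at hsp
  let b : Module.Basis κ K (K ⊗[B] J.Cotangent) := Module.Basis.mk hli hsp.ge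
  have : Finite κ := Module.Finite.finite_basis b
  obtain ⟨n, ⟨e⟩⟩ := Finite.exists_equiv_fin κ
  let j : Fin n → J := fun i => a (e.symm i)
  have hjspan : Submodule.span K (Set.range fun i => (1 : K) ⊗ₜ[B] J.toCotangent (j i)) = ⊤ := by
    rw [← top_le_iff, ← hsp]
    apply Submodule.span_mono
    rintro _ ⟨k, rfl⟩
    exact ⟨e k, by simp [j]⟩
  have hjli : LinearIndependent K (fun i => (1 : K) ⊗ₜ[B] J.toCotangent (j i)) :=
    hli.comp e.symm e.symm.injective
  -- independence of the differentials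
  let Φ : K ⊗[B] J.Cotangent →ₗ[K] K ⊗[B] (C ⊗[B] Ω[B⁄A]) := (kerCotangentToTensor A B C).baseChange K
  have hΦ : Function.Injective Φ := h
  let Θ : K ⊗[B] Ω[B⁄A] →ₗ[K] K ⊗[B] (C ⊗[B] Ω[B⁄A]) := (TensorProduct.mk B C (Ω[B⁄A]) 1).baseChange K
  have hdli : LinearIndependent K (fun i => (1 : K) ⊗ₜ[B] KaehlerDifferential.D A B (j i : B)) := by
    apply LinearIndependent.of_comp Θ
    have h1 : (Θ ∘ fun i => (1 : K) ⊗ₜ[B] KaehlerDifferential.D A B (j i : B)) =
        Φ ∘ fun i => (1 : K) ⊗ₜ[B] J.toCotangent (j i) := by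
      funext i
      simp only [Function.comp_apply, Θ, Φ, LinearMap.baseChange_tmul]
      rfl
    rw [h1]
    exact hjli.map' _ (LinearMap.ker_eq_bot.2 hΦ)
  obtain ⟨G, hG⟩ := Groth.Agent.Ega41.SplitSpread.exists_functionals K
    (fun i => KaehlerDifferential.D A B (j i : B)) hdli
  -- generation
  have hgen : ∃ g : B, g ∉ q ∧ ∀ x : J, g • x ∈ Submodule.span B (Set.range j) := by
    apply Groth.Agent.Ega41.SplitSpread.exists_smul_mem_span q j
    by_contra hne
    obtain ⟨f, hf0, hf⟩ := Submodule.exists_le_ker_of_lt_top _ (lt_top_iff_ne_top.2 hne)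
    apply hf0
    -- the composite `J → κ(q) → K`
    let ρ : q.ResidueField →+* K := Ideal.ResidueField.map q p (algebraMap B C) rfl
    have hρ : ∀ b : B, ρ (algebraMap B q.ResidueField b) = algebraMap B K b := by
      intro b
      rw [IsScalarTower.algebraMap_apply B C K]
      exact Ideal.ResidueField.map_algebraMap q p (algebraMap B C) rfl b
    let φ₀ : J →ₗ[B] K :=
      { toFun := fun x => ρ (f (1 ⊗ₜ x))
        map_add' := fun x y => by rw [tmul_add, map_add, map_add]
        map_smul' := fun c x => by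
          rw [RingHom.id_apply, tmul_smul, ← algebraMap_smul q.ResidueField c ((1 : q.ResidueField) ⊗ₜ[B] x), map_smul,
            smul_eq_mul, map_mul, hρ, Algebra.smul_def] }
    have hφ₁ : (J • ⊤ : Submodule B J) ≤ LinearMap.ker φ₀ := by
      rw [Submodule.smul_le]
      intro r hr x _
      have h2 : algebraMap B K r = 0 := (hKzero r).2 (by
        change algebraMap B C r ∈ p
        have : algebraMap B C r = 0 := hr
        rw [this]
        exact p.zero_mem)
      rw [LinearMap.mem_ker, map_smul, Algebra.smul_def, h2, zero_mul]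
    let φ₂ : J.Cotangent →ₗ[B] K := Submodule.liftQ _ φ₀ hφ₁
    have hφ₂ : ∀ x, φ₂ (J.toCotangent x) = φ₀ x := fun x => rfl
    let φ₃ : K ⊗[B] J.Cotangent →ₗ[K] K := φ₂.liftBaseChange K
    have hφ₃ : φ₃ = 0 := by
      apply LinearMap.ext_on_range hjspan
      intro i
      rw [LinearMap.liftBaseChange_tmul, one_smul, hφ₂, LinearMap.zero_apply]
      have h1 : f (1 ⊗ₜ j i) = 0 := hf (Submodule.subset_span ⟨i, rfl⟩)
      change ρ (f (1 ⊗ₜ j i)) = 0
      rw [h1, map_zero]
    ext x
    have h1 : φ₃ (1 ⊗ₜ J.toCotangent x) = ρ (f (1 ⊗ₜ x)) := by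
      rw [LinearMap.liftBaseChange_tmul, one_smul, hφ₂]
      rfl
    rw [hφ₃, LinearMap.zero_apply] at h1
    refine ρ.injective ?_
    change ρ (f (1 ⊗ₜ x)) = ρ 0
    rw [map_zero]
    exact h1.symm
  obtain ⟨g, hg, hgx⟩ := hgen
  refine ⟨n, fun i => (j i : B), fun i => (G i).compDer (KaehlerDifferential.D A B), fun i => (j i).2, ⟨g, hg, ?_⟩, ?_⟩
  · intro x hx
    have h1 := hgx ⟨x, hx⟩
    have h2 : (Submodule.span B (Set.range j)).map J.subtype = Ideal.span (Set.range fun i => (j i : B)) := by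
      rw [Submodule.map_span, ← Set.range_comp]
      rfl
    rw [← h2]
    exact ⟨_, h1, rfl⟩
  · intro hmem
    apply hG
    have h1 : (Matrix.of fun k i => algebraMap B K (G k (KaehlerDifferential.D A B (j i : B)))) =
        ((algebraMap B K).mapMatrix (Matrix.of fun i k => G k (KaehlerDifferential.D A B (j i : B)))).transpose := rfl
    rw [h1, Matrix.det_transpose, ← RingHom.map_det, hKzero]
    exact hmem

theorem injective_of_jacobian (p : Ideal C) [p.IsPrime] {m : ℕ} (f : Fin m → B) (D : Fin m → Derivation A B B)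
    (hf : ∀ i, f i ∈ RingHom.ker (algebraMap B C))
    (hspan : ∀ x ∈ RingHom.ker (algebraMap B C), ∃ g : B, g ∉ p.comap (algebraMap B C) ∧
      g * x ∈ Ideal.span (Set.range f))
    (hdet : Matrix.det (Matrix.of fun i j => D j (f i)) ∉ p.comap (algebraMap B C)) :
    Function.Injective ((kerCotangentToTensor A B C).lTensor p.ResidueField) := by
  classical
  let K := p.ResidueField
  let J : Ideal B := RingHom.ker (algebraMap B C)
  let q : Ideal B := p.comap (algebraMap B C)
  have hKzero : ∀ b : B, algebraMap B K b = 0 ↔ b ∈ q := by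
    intro b
    rw [IsScalarTower.algebraMap_apply B C K]
    exact Ideal.algebraMap_residueField_eq_zero
  let f' : Fin m → J := fun i => ⟨f i, hf i⟩
  -- spanning
  have hsp : ∀ x : K ⊗[B] J.Cotangent, x ∈ Submodule.span K (Set.range fun i => (1 : K) ⊗ₜ[B] J.toCotangent (f' i)) := by
    intro x
    have hx : x ∈ (⊤ : Submodule K (K ⊗[B] J.Cotangent)) := trivial
    rw [← span_eq_top] at hx
    refine (Submodule.span_le.2 ?_) hx
    rintro _ ⟨y, rfl⟩
    obtain ⟨g, hg, hgy⟩ := hspan y y.2
    obtain ⟨c, hc⟩ := (Ideal.mem_span_range_iff_exists_fun).1 hgy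
    have h1 : g • y = ∑ i, c i • f' i := by
      ext
      rw [Submodule.coe_sum]
      exact hc.symm
    have h2 : algebraMap B K g • ((1 : K) ⊗ₜ[B] J.toCotangent y) =
        ∑ i, algebraMap B K (c i) • ((1 : K) ⊗ₜ[B] J.toCotangent (f' i)) := by
      rw [algebraMap_smul, ← tmul_smul, ← map_smul, h1, map_sum, tmul_sum]
      refine Finset.sum_congr rfl fun i _ => ?_
      rw [algebraMap_smul, ← tmul_smul, map_smul]
    have hg0 : algebraMap B K g ≠ 0 := fun h0 => hg ((hKzero g).1 h0)
    have h3 : (1 : K) ⊗ₜ[B] J.toCotangent y = (algebraMap B K g)⁻¹ •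
        ∑ i, algebraMap B K (c i) • ((1 : K) ⊗ₜ[B] J.toCotangent (f' i)) := by
      rw [← h2, inv_smul_smul₀ hg0]
    change (1 : K) ⊗ₜ[B] J.toCotangent y ∈ _
    rw [h3]
    exact Submodule.smul_mem _ _ (Submodule.sum_mem _ fun i _ => Submodule.smul_mem _ _ (Submodule.subset_span ⟨i, rfl⟩))
  rw [injective_iff_map_eq_zero]
  intro x hx
  obtain ⟨c, hc⟩ := (Submodule.mem_span_range_iff_exists_fun K).1 (hsp x)
  -- the functionals
  let ψ : Fin m → (K ⊗[B] (C ⊗[B] Ω[B⁄A]) →ₗ[K] K) := fun i =>
    ((((Algebra.linearMap B K).comp (D i).liftKaehlerDifferential).liftBaseChange C).restrictScalars B).liftBaseChange K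
  have hψ : ∀ i l, ψ i ((1 : K) ⊗ₜ ((1 : C) ⊗ₜ KaehlerDifferential.D A B (f l))) = algebraMap B K (D i (f l)) := by
    intro i l
    rw [LinearMap.liftBaseChange_tmul, one_smul, LinearMap.coe_restrictScalars, LinearMap.liftBaseChange_tmul, one_smul,
      LinearMap.comp_apply, Derivation.liftKaehlerDifferential_comp_D]
    rfl
  have hx' : ∑ l, c l • ((1 : K) ⊗ₜ[B] ((1 : C) ⊗ₜ[B] KaehlerDifferential.D A B (f l))) = 0 := by
    have h1 : (kerCotangentToTensor A B C).baseChange K x = 0 := hx
    rw [← hc, map_sum] at h1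
    rw [← h1]
    refine Finset.sum_congr rfl fun l _ => ?_
    rw [map_smul]
    rfl
  have hc0 : c = 0 := by
    have hM : ((algebraMap B K).mapMatrix (Matrix.of fun i j => D j (f i))).det ≠ 0 := by
      rw [← RingHom.map_det]
      exact fun h0 => hdet ((hKzero _).1 h0)
    apply Matrix.eq_zero_of_vecMul_eq_zero hM
    funext i
    have h1 := congrArg (ψ i) hx'
    rw [map_sum, map_zero] at h1
    simp only [map_smul, hψ, smul_eq_mul] at h1
    exact h1
  rw [← hc, hc0]
  simp

end K100.ZarJac
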